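import Groth.Agent.SiteCmpLib.Cmp.Derived
import Groth.Agent.H9Misc.TelLocal
import Mathlib.CategoryTheory.Adjunction.Unique

/-!
# The derived comparison functor commutes with restriction
-/

set_option autoImplicit false

universe w v u

open CategoryTheory CategoryTheory.Limits DerivedCategory

namespace Groth.Agent.SiteCmpLib.Cmp

open Secs (RG)

variable {A : Type u} [Category.{v} A] [Abelian A] [IsGrothendieckAbelian.{v} A]
  {A' : Type u} [Category.{v} A'] [Abelian A'] [IsGrothendieckAbelian.{v} A']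
  {B : Type u} [Category.{v} B] [Abelian B] {B' : Type u} [Category.{v} B'] [Abelian B']
  [HasDerivedCategory.{w} A] [HasDerivedCategory.{w} A'] [HasDerivedCategory.{w} B]
  [HasDerivedCategory.{w} B']
  {e : B ⥤ A} {ε : A ⥤ B} (ae : e ⊣ ε) [ε.Additive] [e.Additive]
  [PreservesFiniteLimits e] [PreservesFiniteColimits e]
  {e' : B' ⥤ A'} {ε' : A' ⥤ B'} (ae' : e' ⊣ ε') [ε'.Additive] [e'.Additive]
  [PreservesFiniteLimits e'] [PreservesFiniteColimits e']
  {z : A' ⥤ A} {r : A ⥤ A'} (az : z ⊣ r) [r.Additive] [z.Additive] [PreservesFiniteLimits r]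
  [PreservesFiniteColimits r] [PreservesFiniteLimits z] [PreservesFiniteColimits z]
  {z' : B' ⥤ B} {r' : B ⥤ B'} (az' : z' ⊣ r') [r'.Additive] [z'.Additive] [PreservesFiniteLimits r']
  [PreservesFiniteColimits r'] [PreservesFiniteLimits z'] [PreservesFiniteColimits z']
  (hz : z' ⋙ e ≅ e' ⋙ z)
  [(ε.mapHomotopyCategory (ComplexShape.up ℤ) ⋙ Qh).HasRightDerivedFunctor
      (HomotopyCategory.quasiIso A (ComplexShape.up ℤ))]
  [(ε'.mapHomotopyCategory (ComplexShape.up ℤ) ⋙ Qh).HasRightDerivedFunctor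
      (HomotopyCategory.quasiIso A' (ComplexShape.up ℤ))]

include ae ae' az az' hz in
lemma nonempty_restrict_iso :
    Nonempty (RG ε ⋙ r'.mapDerivedCategory ≅ r.mapDerivedCategory ⋙ RG ε') := by
  obtain ⟨a⟩ := nonempty_adj_RG ae
  obtain ⟨a'⟩ := nonempty_adj_RG ae'
  obtain ⟨sq⟩ := nonempty_mapDC_square z' e e' z hz
  exact ⟨(((H9Misc.TelLocal.derivedAdjunction az').comp a).ofNatIsoLeft sq).rightAdjointUniq
    (a'.comp (H9Misc.TelLocal.derivedAdjunction az))⟩

end Groth.Agent.SiteCmpLib.Cmp
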