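import Groth.Agent.SiteCmpLib.Cmp.OverMap
import Mathlib.CategoryTheory.Limits.ConcreteCategory.Basic
import Mathlib.Algebra.Category.Grp.Limits

/-!
# Sections of abelian sheaves on localised sites
-/

set_option autoImplicit false

universe u

open CategoryTheory CategoryTheory.Limits Opposite

namespace Groth.Agent.SiteCmpLib.Cmp

variable {C : Type u} [SmallCategory C] (J : GrothendieckTopology C) {X Y : C}

lemma eq_zero_of_cover (G : Sh J Y) {T : Over Y} (S : Sieve T.left) (hS : S ∈ J T.left)
    (s : G.obj.obj (op T))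
    (h : ∀ {Z : Over Y} (g : Z ⟶ T), S g.left → (G.obj.map g.op).hom s = 0) : s = 0 := by
  have hG : Presieve.IsSeparated (J.over Y) (G.obj ⋙ forget AddCommGrpCat.{u}) :=
    ((isSheaf_iff_isSheaf_of_type _ _).1
      ((Presheaf.isSheaf_iff_isSheaf_forget (J.over Y) G.obj (forget AddCommGrpCat.{u})).1 G.property)).isSeparated
  refine (hG ((Sieve.overEquiv T).symm S) (J.overEquiv_symm_mem_over T S hS)).ext (fun {Z} g hg => ?_)
  exact (h g ((Sieve.overEquiv_symm_iff S g).1 hg)).trans (map_zero (G.obj.map g.op).hom).symm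

lemma eq_zero_of_sieve (G : Sh J Y) {T : Over Y} (S : Sieve T) (hS : S ∈ (J.over Y) T)
    (s : G.obj.obj (op T))
    (h : ∀ {Z : Over Y} (g : Z ⟶ T), S g → (G.obj.map g.op).hom s = 0) : s = 0 :=
  eq_zero_of_cover J G (Sieve.overEquiv T S) hS s fun g hg => h g <| by
    have := (Sieve.overEquiv_symm_iff (Sieve.overEquiv T S) g).2 hg
    exact (congrArg (fun R : Sieve T => R.arrows g) ((Sieve.overEquiv T).symm_apply_apply S)).mp this

lemma isZero_of_sections' (G : Sh J Y) (h : ∀ (T : Over Y) (s : G.obj.obj (op T)), s = 0) :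
    IsZero G := by
  rw [IsZero.iff_id_eq_zero]
  refine Sheaf.hom_ext (NatTrans.ext (funext fun T => ?_))
  ext s
  exact h T.unop s

/-- Restriction to a covering object detects zero sheaves. -/
lemma isZero_of_restr (f : X ⟶ Y)
    (hf : Sieve.ofArrows (fun _ : PUnit.{u + 1} => X) (fun _ => f) ∈ J Y) (G : Sh J Y)
    (hG : IsZero ((restr J f).obj G)) : IsZero G := by
  refine isZero_of_sections' J G fun T s => eq_zero_of_cover J G _ (J.pullback_stable T.hom hf) s
    fun {Z} g hg => ?_
  obtain ⟨W, k, a, ⟨_⟩, e⟩ := hg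
  let i : Z ⟶ (Over.map f).obj (Over.mk k) := Over.homMk (𝟙 _) (by
    refine (Category.id_comp _).trans (e.trans ?_)
    exact Over.w g)
  let j : (Over.map f).obj (Over.mk k) ⟶ Z := Over.homMk (𝟙 _) (by
    refine (Category.id_comp _).trans ?_
    exact (e.trans (Over.w g)).symm)
  have hij : g = i ≫ (j ≫ g) := by
    ext
    exact ((Category.id_comp _).trans (Category.id_comp _)).symm
  have hz : ∀ t : G.obj.obj (op ((Over.map f).obj (Over.mk k))), t = 0 := fun t => by
    have h1 := congrArg (fun q : (restr J f).obj G ⟶ (restr J f).obj G => (q.hom.app (op (Over.mk k))).hom t)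
      ((IsZero.iff_id_eq_zero _).1 hG)
    exact h1
  rw [hij, op_comp, Functor.map_comp]
  exact (congrArg (G.obj.map i.op).hom (hz _)).trans (map_zero _)

/-- A section killed on all objects over `X` has zero image under the unit. -/
lemma restrAdj_unit_eq_zero (f : X ⟶ Y) (G : Sh J Y) (T : Over Y) (s : G.obj.obj (op T))
    (h : ∀ (Z : Over X) (g : (Over.map f).obj Z ⟶ T), (G.obj.map g.op).hom s = 0) :
    (((restrAdj J f).unit.app G).hom.app (op T)).hom s = 0 := by
  let L := (Over.map f).op
  rw [Functor.sheafAdjunctionCocontinuous_unit_app_hom]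
  refine Concrete.isLimit_ext _ (L.isPointwiseRightKanExtensionRanCounit (L ⋙ G.obj) (op T)) _ _
    fun j => ?_
  refine Eq.trans ?_ (map_zero (((Functor.RightExtension.mk _ (L.ranCounit.app (L ⋙ G.obj))).coneAt
    (op T)).π.app j).hom).symm
  show ((((Functor.RightExtension.mk _ (L.ranCounit.app (L ⋙ G.obj))).left).map j.hom ≫
    (L.ranCounit.app (L ⋙ G.obj)).app j.right).hom) (((L.ranAdjunction _).unit.app G.obj).app (op T) |>.hom s) = 0
  have h1 : ((L.ranAdjunction AddCommGrpCat.{u}).unit.app G.obj).app (op T) ≫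
      (L.ran.obj (L ⋙ G.obj)).map j.hom ≫ (L.ranCounit.app (L ⋙ G.obj)).app j.right =
        G.obj.map j.hom := by
    refine (Category.assoc _ _ _).symm.trans ((congrArg (· ≫ _)
      (((L.ranAdjunction AddCommGrpCat.{u}).unit.app G.obj).naturality j.hom).symm).trans ?_)
    refine (Category.assoc _ _ _).trans ?_
    exact (congrArg (_ ≫ ·) (L.ranCounit_app_app_ranAdjunction_unit_app_app G.obj j.right)).trans
      (Category.comp_id _)
  exact (ConcreteCategory.congr_hom h1 s).trans (h j.right.unop j.hom.unop)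

lemma sections_injective_of_mono {G H : Sh J Y} (φ : G ⟶ H) [Mono φ] (T : (Over Y)ᵒᵖ) :
    Function.Injective (φ.hom.app T).hom := by
  have : Mono φ.hom := (sheafToPresheaf _ _).map_mono φ
  have : Mono (φ.hom.app T) := inferInstance
  exact (AddCommGrpCat.mono_iff_injective _).1 this

variable {J} {J' : GrothendieckTopology C} (h : J' ≤ J)

/-- If `ε⁻¹G = 0` every section is locally zero for the finer topology. -/
lemma exists_sieve_of_isZero (G : Sh J' Y) (hG : IsZero ((epsInvX h Y).obj G)) (T : Over Y)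
    (s : G.obj.obj (op T)) : ∃ S ∈ J T.left, ∀ {Z : Over Y} (g : Z ⟶ T), S g.left →
      (G.obj.map g.op).hom s = 0 := by
  let G' := (presheafToSheaf (J.over Y) AddCommGrpCat.{u}).obj G.obj
  let η := toSheafify (J.over Y) G.obj
  let φ : G ⟶ (epsX h Y).obj G' :=
    ⟨{ app := fun Z => η.app Z, naturality := fun _ _ g => η.naturality g }⟩
  have hφ : φ = 0 := ((epsAdjX h Y).homEquiv _ _).symm.injective (hG.eq_of_src _ _)
  have hs : η.app (op T) s = η.app (op T) 0 := by
    refine Eq.trans ?_ (map_zero (η.app (op T)).hom).symm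
    exact congrArg (fun q : G ⟶ (epsX h Y).obj G' => (q.hom.app (op T)).hom s) hφ
  refine ⟨Sieve.overEquiv T (Presheaf.equalizerSieve (X := op T) s 0),
    Presheaf.equalizerSieve_mem (J.over Y) η s 0 hs, fun {Z} g hg => ?_⟩
  have hg' := (congrArg (fun R : Sieve T => R.arrows g) ((Sieve.overEquiv T).symm_apply_apply _)).mp
    ((Sieve.overEquiv_symm_iff _ g).2 hg)
  exact hg'.trans (map_zero _)

lemma fix_of_isSheaf (F : Sh J' Y) (hF : Presheaf.IsSheaf (J.over Y) F.obj) :
    IsIso ((epsAdjX h Y).unit.app F) := by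
  let N : Sh J Y := ⟨F.obj, hF⟩
  let i : (epsX h Y).obj N ≅ F := (fullyFaithfulSheafToPresheaf _ _).preimageIso (Functor.leftUnitor F.obj)
  refine (NatTrans.isIso_app_iff_of_iso (epsAdjX h Y).unit i).1 ?_
  have h1 : IsIso ((epsAdjX h Y).unit.app ((epsX h Y).obj N) ≫
      (epsX h Y).map ((epsAdjX h Y).counit.app N)) :=
    ((epsAdjX h Y).right_triangle_components N).symm ▸ IsIso.id _
  exact IsIso.of_isIso_comp_right _ ((epsX h Y).map ((epsAdjX h Y).counit.app N))

end Groth.Agent.SiteCmpLib.Cmp
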