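import Groth.Agent.SiteCmpLib.Cmp.Square
import Groth.Agent.SiteCmpLib.Cmp.Sections
import Groth.Agent.SiteCmpLib.Cmp.Restrict
import Groth.Agent.SiteCmpLib.WeakSerreMap
import Groth.Prelude.Def_CohSite

/-!
# Comparing cohomology for two topologies
-/

set_option autoImplicit false

universe u

open CategoryTheory CategoryTheory.Limits Opposite DerivedCategory
open scoped ZeroObject

attribute [local instance] HasDerivedCategory.standard

namespace Groth.Agent.SiteCmpLib.Cmp

open Secs (RG)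

variable {C : Type u} [SmallCategory C] {J J' : GrothendieckTopology C} (h : J' ≤ J)

lemma additive_dirIm {X Y : C} (f : X ⟶ Y) : (dirIm J' f).Additive := inferInstance

variable (P : MorphismProperty C) (A' : ∀ X : C, ObjectProperty (Sh J' X))
  [∀ X : C, WSerre.IsWeakSerre (A' X)]
  (h2 : ∀ ⦃X Y : C⦄ (f : X ⟶ Y) (F' : Sh J' Y), A' Y F' → A' X ((restr J' f).obj F'))
  (h3 : ∀ (X : C) (F' : Sh J' X), A' X F' → Presheaf.IsSheaf (J.over X) F'.obj)
  (h4 : ∀ ⦃X Y : C⦄ (f : X ⟶ Y) [(dirIm J' f).Additive], P f → ∀ (F' : Sh J' X), A' X F' →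
    ∀ i : ℕ, A' Y (((dirIm J' f).rightDerived i).obj F'))

include h2 in
omit [∀ X : C, WSerre.IsWeakSerre (A' X)] in
lemma prop_restr [∀ X : C, WSerre.IsWeakSerre (A' X)] {X Y : C} (f : X ⟶ Y) (F : Sh J Y)
    (hF : A' Y ((epsX h Y).obj F)) : A' X ((epsX h X).obj ((restr J f).obj F)) :=
  (A' X).prop_of_iso ((epsRestrIso f h).app F).symm (h2 f _ hF)

/-- The cohomology of `Rε` commutes with restriction. -/
lemma nonempty_restr_homology {X Y : C} (g : X ⟶ Y) (F : Sh J Y) (q : ℤ)
    [((epsX h Y).mapHomotopyCategory (ComplexShape.up ℤ) ⋙ Qh).HasRightDerivedFunctor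
      (HomotopyCategory.quasiIso (Sh J Y) (ComplexShape.up ℤ))]
    [((epsX h X).mapHomotopyCategory (ComplexShape.up ℤ) ⋙ Qh).HasRightDerivedFunctor
      (HomotopyCategory.quasiIso (Sh J X) (ComplexShape.up ℤ))] :
    Nonempty ((restr J' g).obj ((homologyFunctor (Sh J' Y) q).obj
        ((RG (epsX h Y)).obj ((singleFunctor (Sh J Y) 0).obj F))) ≅
      (homologyFunctor (Sh J' X) q).obj
        ((RG (epsX h X)).obj ((singleFunctor (Sh J X) 0).obj ((restr J g).obj F)))) := by
  obtain ⟨ρ⟩ := nonempty_restrict_iso (epsAdjX h Y) (epsAdjX h X) (extZeroAdj J g) (extZeroAdj J' g)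
    (epsInvExtZeroIso g h)
  exact ⟨((KFlatLib.mapDCHomologyIso (restr J' g) q).app _).symm ≪≫
    (homologyFunctor (Sh J' X) q).mapIso (ρ.app _ ≪≫
      (RG (epsX h X)).mapIso (((restr J g).mapDerivedCategorySingleFunctor 0).app F))⟩

variable (h5 : ∀ (U : C) (S : Sieve U), S ∈ J U → ∃ (ι : Type u) (V : ι → C) (v : ∀ j, V j ⟶ U),
    Sieve.ofArrows V v ∈ J' U ∧ ∀ j, ∃ (W : C) (w : W ⟶ V j), P w ∧
      Sieve.ofArrows (fun _ : PUnit.{u + 1} => W) (fun _ => w) ∈ J (V j) ∧
      ∃ (κ : Type u) (Wk : κ → C) (wk : ∀ k, Wk k ⟶ W), Sieve.ofArrows Wk wk ∈ J' W ∧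
        ∀ k, S.arrows (wk k ≫ w ≫ v j))

include h2 h3 h4 in
/-- The inductive step at a covering in the class. -/
lemma section_eq_zero_step (n : ℕ) (hV : ∀ X, Van1 (epsX h X) (A' X) n) {W V : C} (w : W ⟶ V)
    (hw : P w) (hcov : Sieve.ofArrows (fun _ : PUnit.{u + 1} => W) (fun _ => w) ∈ J V)
    (F : Sh J V) (hF : A' V ((epsX h V).obj F)) (G : Sh J' V)
    [((epsX h V).mapHomotopyCategory (ComplexShape.up ℤ) ⋙ Qh).HasRightDerivedFunctor
      (HomotopyCategory.quasiIso (Sh J V) (ComplexShape.up ℤ))]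
    (i : G ≅ (homologyFunctor (Sh J' V) ((n + 1 : ℕ) : ℤ)).obj
      ((RG (epsX h V)).obj ((singleFunctor (Sh J V) 0).obj F)))
    (T : Over V) (s : G.obj.obj (op T))
    (hs : ∀ (Z : Over W) (g : (Over.map w).obj Z ⟶ T), (G.obj.map g.op).hom s = 0) : s = 0 := by
  have := hasRDF (epsX h W)
  have := hasRDF (dirIm J w)
  have := hasRDF (dirIm J' w)
  let η := (restrAdj J' w).unit.app G
  have hk : IsZero ((restr J' w).obj (kernel η)) := by
    have hsplit : IsSplitMono ((restr J' w).map η) :=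
      IsSplitMono.mk' ⟨(restrAdj J' w).counit.app _, (restrAdj J' w).left_triangle_components G⟩
    refine IsZero.of_iso ?_ (PreservesKernel.iso (restr J' w) η)
    exact isZero_kernel_of_mono _
  have hk0 : IsZero (kernel η) :=
    kernel_step (epsAdjX h V) (epsAdjX h W) (restrAdj J w) (restrAdj J' w) (epsInvRestrIso w h)
      (A' V) (A' W) (fun M hM => fix_of_isSheaf h M (h3 V M hM))
      (fun M hM => fix_of_isSheaf h M (h3 W M hM)) (fun M hM => h2 w M hM)
      (fun M hM q => h4 w hw M hM q) n (hV V) (hV W)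
      (fun G hG => isZero_of_restr J w hcov G hG) F hF (kernel η) (kernel.ι η ≫ i.hom) hk
  have : Mono η := Preadditive.mono_of_isZero_kernel η hk0
  exact sections_injective_of_mono J' η (op T)
    ((restrAdj_unit_eq_zero J' w G T s hs).trans (map_zero _).symm)

include h2 h3 h4 h5 in
/-- All higher direct images of `ε` vanish on the class. -/
theorem van : ∀ (n : ℕ) (X : C), Van1 (epsX h X) (A' X) n
  | 0, X => fun M _ p hp hp' => absurd hp (by omega)
  | n + 1, X => fun F hF p hp hp' => by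
    rcases Nat.lt_or_ge n p with hnp | hnp
    swap
    · exact van n X F hF p hp hnp
    obtain rfl : p = n + 1 := by omega
    have := hasRDF (epsX h X)
    obtain ⟨h1, -⟩ := Secs.nonempty_homology_RG_single (epsX h X) F
    obtain ⟨e1⟩ := h1 (n + 1)
    refine IsZero.of_iso ?_ e1.symm
    let G := (homologyFunctor (Sh J' X) ((n + 1 : ℕ) : ℤ)).obj
      ((RG (epsX h X)).obj ((singleFunctor (Sh J X) 0).obj F))
    have hG : IsZero ((epsInvX h X).obj G) := by
      obtain ⟨Φ⟩ := nonempty_eH (epsAdjX h X) ((n + 1 : ℕ) : ℤ)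
      exact (isZero_of_isLE ((singleFunctor (Sh J X) 0).obj F) 0 _ (by omega)).of_iso (Φ.app _)
    refine isZero_of_sections' J' G fun T s => ?_
    obtain ⟨S, hS, hkill⟩ := exists_sieve_of_isZero h G hG T s
    obtain ⟨ι, V, v, hv, hVj⟩ := h5 T.left S hS
    refine eq_zero_of_cover J' G _ hv s fun {Z} g hg => ?_
    obtain ⟨_, k, _, ⟨j⟩, e⟩ := hg
    let Tj : Over X := Over.mk (v j ≫ T.hom)
    let gj : Tj ⟶ T := Over.homMk (v j) rfl
    have hsj : (G.obj.map gj.op).hom s = 0 := by
      obtain ⟨W, w, hw, hcov, κ, Wk, wk, hwk, hSk⟩ := hVj j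
      let g₀ : V j ⟶ X := v j ≫ T.hom
      have := hasRDF (epsX h (V j))
      obtain ⟨ρ⟩ := nonempty_restr_homology h g₀ F ((n + 1 : ℕ) : ℤ)
      let t : (Over.map g₀).obj (Over.mk (𝟙 (V j))) ⟶ T := Over.homMk (v j) (Category.id_comp _).symm
      have ht : (G.obj.map t.op).hom s = 0 := by
        refine section_eq_zero_step h P A' h2 h3 h4 n (fun Y => van n Y) w hw hcov
          ((restr J g₀).obj F) (prop_restr h A' h2 g₀ F hF) ((restr J' g₀).obj G) ρ
          (Over.mk (𝟙 (V j))) _ fun Z q => ?_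
        show (G.obj.map ((Over.map g₀).map q).op).hom ((G.obj.map t.op).hom s) = 0
        have hq : q.left = Z.hom ≫ w := (Category.comp_id _).symm.trans (Over.w q)
        rw [← ConcreteCategory.comp_apply, ← Functor.map_comp, ← op_comp]
        refine eq_zero_of_cover J' G _ (J'.pullback_stable Z.hom hwk) _ fun {Z'} r hr => ?_
        rw [← ConcreteCategory.comp_apply, ← Functor.map_comp, ← op_comp]
        refine hkill _ ?_
        obtain ⟨_, a, _, ⟨l⟩, ea⟩ := hr
        show S.arrows (r.left ≫ q.left ≫ v j)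
        rw [hq, ← Category.assoc, ← Category.assoc, ← ea, Category.assoc, Category.assoc]
        exact S.downward_closed (hSk l) a
      let i : Tj ⟶ (Over.map g₀).obj (Over.mk (𝟙 (V j))) := Over.homMk (𝟙 _) (by
        show 𝟙 _ ≫ 𝟙 _ ≫ g₀ = _
        rw [Category.id_comp, Category.id_comp]; rfl)
      rw [show gj = i ≫ t from Over.OverMorphism.ext (Category.id_comp _).symm, op_comp,
        Functor.map_comp]
      exact (congrArg (G.obj.map i.op).hom ht).trans (map_zero _)
    let gk : Z ⟶ Tj := Over.homMk k (by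
      show k ≫ v j ≫ T.hom = Z.hom
      rw [← Category.assoc, e, Over.w])
    rw [show g = gk ≫ gj from Over.OverMorphism.ext e.symm, op_comp, Functor.map_comp]
    exact (congrArg (G.obj.map gk.op).hom hsj).trans (map_zero _)

include h2 h3 h4 h5 in
theorem rightDerived_eps_isZero (X : C) (F : Sh J X) (hF : A' X ((epsX h X).obj F)) (i : ℕ)
    (hi : 1 ≤ i) : IsZero (((epsX h X).rightDerived i).obj F) :=
  van h P A' h2 h3 h4 h5 i X F hF i hi le_rfl

include h3 h4 in
theorem rightDerived_relocalisation (n : ℕ) (hV : ∀ X, Van1 (epsX h X) (A' X) n) {X Y : C}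
    (f : X ⟶ Y) (hf : P f) (F : Sh J X) (hF : A' X ((epsX h X).obj F)) (i : ℕ) (hi : i ≤ n) :
    Nonempty (((dirIm J' f).rightDerived i).obj ((epsX h X).obj F) ≅
      (epsX h Y).obj (((dirIm J f).rightDerived i).obj F)) := by
  have := hasRDF (epsX h X)
  have := hasRDF (epsX h Y)
  have := hasRDF (dirIm J f)
  have := hasRDF (dirIm J' f)
  exact (low_rpush (epsAdjX h Y) (epsAdjX h X) (restrAdj J f) (restrAdj J' f) (epsInvRestrIso f h)
    (A' Y) (A' X) (fun M hM => fix_of_isSheaf h M (h3 Y M hM)) (fun M hM q => h4 f hf M hM q)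
    F hF n (hV X) i hi).1

include h2 h3 h4 h5 in
theorem isWeakSerre_inverseImage (X : C) :
    WSerre.IsWeakSerre ((A' X).inverseImage (epsX h X)) := by
  have hJ : ∀ M, A' X M → IsIso ((epsAdjX h X).unit.app M) := fun M hM => fix_of_isSheaf h M (h3 X M hM)
  refine { (inferInstance : WSerre.IsWeakSerre (A' X)) with
    toContainsZero := ⟨⟨0, isZero_zero _,
      prop_of_isZero (A' X) ((epsX h X).map_isZero (isZero_zero _))⟩⟩
    kernels_le := ?_, cokernels_le := ?_, prop_X₂_of_shortExact := ?_ }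
  · rintro _ ⟨f, k, hk, hM, hN⟩
    exact (A' X).prop_of_isLimit_kernelFork (KernelFork.mapIsLimit _ hk (epsX h X)) hM hN
  · rintro _ ⟨f, k, hk, hM, hN⟩
    let S : ShortComplex (Sh J X) := ShortComplex.mk f k.π k.condition
    have hS : S.Exact :=
      S.exact_of_g_is_cokernel (IsColimit.ofIsoColimit hk (Cofork.ext (Iso.refl _) (Category.comp_id _)))
    have : Epi S.g := Cofork.IsColimit.epi hk
    exact (prop_coker (epsAdjX h X) hJ hS hM hN).1
  · intro S hS h₁ h₃
    have := hasRDF (epsX h X)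
    have := hS.mono_f
    have hepi := epi_map_of_vanish (epsAdjX h X) hS
      (rightDerived_eps_isZero h P A' h2 h3 h4 h5 X S.X₁ h₁ 1 le_rfl)
    have hS' : (S.map (epsX h X)).ShortExact := by
      refine ShortComplex.ShortExact.mk' ?_ (inferInstanceAs (Mono ((epsX h X).map S.f))) hepi
      exact (S.map (epsX h X)).exact_of_f_is_kernel
        (KernelFork.mapIsLimit _ hS.fIsKernel (epsX h X))
    exact (A' X).prop_X₂_of_shortExact hS' h₁ h₃

end Groth.Agent.SiteCmpLib.Cmp
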