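import Groth.Agent.SiteCmpLib.Secs.Amplitude
import Groth.Agent.SiteCmpLib.Flat
import Groth.Agent.H9Misc.GPDerived

/-!
# Adjunctions and low degrees for unbounded right derived functors
-/

set_option autoImplicit false

universe w₁ w₂ w₃ v₁ v₂ v₃ u₁ u₂ u₃

open CategoryTheory CategoryTheory.Limits DerivedCategory Pretriangulated

namespace Groth.Agent.SiteCmpLib.Cmp

open Secs (RG)

variable {A : Type u₁} [Category.{v₁} A] [Abelian A] [HasDerivedCategory.{w₁} A]
  {B : Type u₂} [Category.{v₂} B] [Abelian B] [HasDerivedCategory.{w₂} B]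

section Exact

variable {D : Type u₃} [Category.{v₃} D] [Abelian D] [HasDerivedCategory.{w₃} D]
  (F : A ⥤ B) [F.Additive] [PreservesFiniteLimits F] [PreservesFiniteColimits F]
  (F' : B ⥤ D) [F'.Additive] [PreservesFiniteLimits F'] [PreservesFiniteColimits F']

lemma nonempty_mapDC_comp (H : A ⥤ D) [H.Additive] [PreservesFiniteLimits H]
    [PreservesFiniteColimits H] (e : F ⋙ F' ≅ H) :
    Nonempty (F.mapDerivedCategory ⋙ F'.mapDerivedCategory ≅ H.mapDerivedCategory) := by
  let c := ComplexShape.up ℤ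
  let i : F.mapHomologicalComplex c ⋙ F'.mapHomologicalComplex c ≅ H.mapHomologicalComplex c :=
    Iso.refl _ ≪≫ NatIso.mapHomologicalComplex (F := F ⋙ F') (G := H) e c
  have : Localization.Lifting (Q (C := A)) (HomologicalComplex.quasiIso A c)
      (F.mapHomologicalComplex c ⋙ F'.mapHomologicalComplex c ⋙ Q)
      (F.mapDerivedCategory ⋙ F'.mapDerivedCategory) :=
    ⟨(Functor.associator _ _ _).symm ≪≫ Functor.isoWhiskerRight F.mapDerivedCategoryFactors _ ≪≫
      Functor.associator _ _ _ ≪≫ Functor.isoWhiskerLeft _ F'.mapDerivedCategoryFactors⟩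
  exact ⟨Localization.liftNatIso (Q (C := A)) (HomologicalComplex.quasiIso A c)
    (F.mapHomologicalComplex c ⋙ F'.mapHomologicalComplex c ⋙ Q)
    (H.mapHomologicalComplex c ⋙ Q) _ _
    ((Functor.associator _ _ _).symm ≪≫ Functor.isoWhiskerRight i _)⟩

lemma nonempty_mapDC_square {B' : Type u₂} [Category.{v₂} B'] [Abelian B']
    [HasDerivedCategory.{w₂} B'] (F₁ : A ⥤ B') [F₁.Additive] [PreservesFiniteLimits F₁]
    [PreservesFiniteColimits F₁] (F₁' : B' ⥤ D) [F₁'.Additive] [PreservesFiniteLimits F₁']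
    [PreservesFiniteColimits F₁'] (e : F ⋙ F' ≅ F₁ ⋙ F₁') :
    Nonempty (F.mapDerivedCategory ⋙ F'.mapDerivedCategory ≅
      F₁.mapDerivedCategory ⋙ F₁'.mapDerivedCategory) := by
  have : PreservesFiniteLimits (F₁ ⋙ F₁') := comp_preservesFiniteLimits _ _
  have : PreservesFiniteColimits (F₁ ⋙ F₁') := comp_preservesFiniteColimits _ _
  obtain ⟨a⟩ := nonempty_mapDC_comp F F' (F₁ ⋙ F₁') e
  obtain ⟨b⟩ := nonempty_mapDC_comp F₁ F₁' (F₁ ⋙ F₁') (Iso.refl _)
  exact ⟨a ≪≫ b.symm⟩

end Exact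

variable [IsGrothendieckAbelian.{v₁} A] (G : A ⥤ B) [G.Additive]

/-- The unbounded right derived functor exists on a Grothendieck abelian category. -/
lemma hasRDF : (G.mapHomotopyCategory (ComplexShape.up ℤ) ⋙ Qh).HasRightDerivedFunctor
    (HomotopyCategory.quasiIso A (ComplexShape.up ℤ)) := by
  have := H9Misc.GPDerived.qh_isLeftAdjoint A
  let adjQ := Adjunction.ofIsLeftAdjoint (Qh (C := A))
  let W := HomotopyCategory.quasiIso A (ComplexShape.up ℤ)
  have := TriCat.isRightDerivedFunctor_of_adjunction adjQ W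
    (G.mapHomotopyCategory (ComplexShape.up ℤ) ⋙ Qh)
  exact Functor.HasRightDerivedFunctor.mk' (L := Qh)
    (Qh.rightAdjoint ⋙ G.mapHomotopyCategory (ComplexShape.up ℤ) ⋙ Qh)
    (Functor.whiskerRight adjQ.unit (G.mapHomotopyCategory (ComplexShape.up ℤ) ⋙ Qh) :
      G.mapHomotopyCategory (ComplexShape.up ℤ) ⋙ Qh ⟶
        Qh ⋙ Qh.rightAdjoint ⋙ G.mapHomotopyCategory (ComplexShape.up ℤ) ⋙ Qh) (W := W)

variable [(G.mapHomotopyCategory (ComplexShape.up ℤ) ⋙ Qh).HasRightDerivedFunctor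
      (HomotopyCategory.quasiIso A (ComplexShape.up ℤ))]

variable {G} {F : B ⥤ A} (adj : F ⊣ G) [F.Additive] [PreservesFiniteLimits F]
  [PreservesFiniteColimits F]

include adj in
lemma nonempty_adj_RG : Nonempty (F.mapDerivedCategory ⊣ RG G) := by
  have := H9Misc.GPDerived.qh_isLeftAdjoint A
  let adjQ := Adjunction.ofIsLeftAdjoint (Qh (C := A))
  let W := HomotopyCategory.quasiIso A (ComplexShape.up ℤ)
  let K := G.mapHomotopyCategory (ComplexShape.up ℤ) ⋙ Qh
  have := TriCat.isRightDerivedFunctor_of_adjunction adjQ W K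
  let e : Qh.rightAdjoint ⋙ K ≅ RG G :=
    Functor.rightDerivedUnique _ _ (Functor.whiskerRight adjQ.unit K :
      K ⟶ Qh ⋙ Qh.rightAdjoint ⋙ K) (K.totalRightDerivedUnit Qh W) W
  exact ⟨(H9Misc.AdjDescend.derivedAdj adj adjQ).ofNatIsoRight (Functor.associator _ _ _ ≪≫ e)⟩

variable (G)

omit [F.Additive] in
/-- Cohomology of `RG` of an object in a single degree. -/
lemma nonempty_homology_RG_single_shift (M : A) (a i : ℤ) :
    Nonempty ((homologyFunctor B i).obj ((RG G).obj ((singleFunctor A a).obj M)) ≅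
      (homologyFunctor B (i - a)).obj ((RG G).obj ((singleFunctor A 0).obj M))) := by
  let i₁ : (singleFunctor A 0).obj M ≅ ((singleFunctor A a).obj M)⟦a⟧ :=
    (((singleFunctors A).shiftIso a 0 a (add_zero a)).app M).symm
  obtain ⟨e⟩ := Secs.nonempty_shift_RG G ((singleFunctor A a).obj M) a
  exact ⟨((((homologyFunctor B 0).shiftIso a (i - a) i (by omega)).app
    ((RG G).obj ((singleFunctor A a).obj M))).symm ≪≫
    (homologyFunctor B (i - a)).mapIso (e.symm ≪≫ (RG G).mapIso i₁.symm))⟩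

variable [PreservesFiniteLimits G]

omit [F.Additive] in
/-- The lowest cohomology of `RG`. -/
lemma nonempty_homology_RG_lowest (X : DerivedCategory A) (a : ℤ) [X.IsGE a] :
    Nonempty ((homologyFunctor B a).obj ((RG G).obj X) ≅ G.obj ((homologyFunctor A a).obj X)) := by
  let L := (TStructure.t.truncLT (a + 1)).obj X
  let R := (TStructure.t.truncGE (a + 1)).obj X
  have hT := TStructure.t.triangleLTGE_distinguished (a + 1) X
  have : L.IsLE a := TStructure.t.isLE_truncLT_obj X (a + 1) a (by omega)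
  have : TStructure.t.IsGE X a := inferInstanceAs (X.IsGE a)
  have : L.IsGE a := inferInstanceAs (TStructure.t.IsGE _ a)
  obtain ⟨δ, hδ⟩ := Secs.exists_distinguished_RG G _ hT
  have : R.IsGE (a + 1) := inferInstanceAs (TStructure.t.IsGE _ _)
  have := Secs.isGE_RG G R (a + 1)
  have hz : ∀ k, k ≤ a → IsZero ((homologyFunctor B k).obj ((RG G).obj R)) := fun k hk =>
    isZero_of_isGE ((RG G).obj R) (a + 1) k (by omega)
  have hm := (HomologySequence.mono_homologyMap_mor₁_iff _ hδ (a - 1) a (by omega)).2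
    ((hz (a - 1) (by omega)).eq_of_src _ _)
  have he := (HomologySequence.epi_homologyMap_mor₁_iff _ hδ a).2 ((hz a le_rfl).eq_of_tgt _ _)
  obtain ⟨M, ⟨eM⟩⟩ := exists_iso_singleFunctor_obj_of_isGE_of_isLE L a
  obtain ⟨e1⟩ := nonempty_homology_RG_single_shift G M a a
  obtain ⟨h1, -⟩ := Secs.nonempty_homology_RG_single G M
  obtain ⟨e2⟩ := h1 0
  have := H9Misc.isIso_map_truncLTι (a + 1) a (by omega) X
  refine ⟨(@asIso _ _ _ _ _ (@isIso_of_mono_of_epi _ _ _ _ _ _ hm he)).symm ≪≫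
    (homologyFunctor B a).mapIso ((RG G).mapIso eM) ≪≫ e1 ≪≫
    eqToIso (by simp) ≪≫ e2 ≪≫ G.rightDerivedZeroIsoSelf.app M ≪≫ G.mapIso ?_⟩
  exact ((singleFunctorCompHomologyFunctorIso A a).app M).symm ≪≫
    (homologyFunctor A a).mapIso eM.symm ≪≫
    asIso ((homologyFunctor A a).map ((TStructure.t.truncLTι (a + 1)).app X))

omit [F.Additive] in
/-- If `R^pG M = 0` for `1 ≤ p ≤ n`, then `G M → RG M` has a cone in degrees `> n`. -/
lemma exists_low_triangle (M : A) (n : ℕ)
    (h : ∀ p : ℕ, 1 ≤ p → p ≤ n → IsZero ((G.rightDerived p).obj M)) :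
    ∃ (Z : DerivedCategory B) (a : (singleFunctor B 0).obj (G.obj M) ⟶ (RG G).obj ((singleFunctor A 0).obj M))
      (b : (RG G).obj ((singleFunctor A 0).obj M) ⟶ Z)
      (c : Z ⟶ ((singleFunctor B 0).obj (G.obj M))⟦(1 : ℤ)⟧),
      Triangle.mk a b c ∈ distinguishedTriangles ∧ Z.IsGE ((n : ℤ) + 1) := by
  let X := (RG G).obj ((singleFunctor A 0).obj M)
  have : X.IsGE 0 := Secs.isGE_RG G _ 0
  have hT := TStructure.t.triangleLTGE_distinguished 1 X
  let L := (TStructure.t.truncLT 1).obj X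
  have : L.IsLE 0 := TStructure.t.isLE_truncLT_obj X 1 0 (by omega)
  have : TStructure.t.IsGE X 0 := inferInstanceAs (X.IsGE 0)
  have : L.IsGE 0 := inferInstanceAs (TStructure.t.IsGE _ 0)
  obtain ⟨N, ⟨eN⟩⟩ := exists_iso_singleFunctor_obj_of_isGE_of_isLE L 0
  obtain ⟨h1, -⟩ := Secs.nonempty_homology_RG_single G M
  obtain ⟨e2⟩ := h1 0
  have := H9Misc.isIso_map_truncLTι 1 0 (by omega) X
  let j : G.obj M ≅ N := (G.rightDerivedZeroIsoSelf.app M).symm ≪≫ e2.symm ≪≫
    (asIso ((homologyFunctor B 0).map ((TStructure.t.truncLTι 1).app X))).symm ≪≫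
    (homologyFunctor B 0).mapIso eN ≪≫ (singleFunctorCompHomologyFunctorIso B 0).app N
  let i : (singleFunctor B 0).obj (G.obj M) ≅ L := (singleFunctor B 0).mapIso j ≪≫ eN.symm
  refine ⟨(TStructure.t.truncGE 1).obj X, i.hom ≫ (TStructure.t.truncLTι 1).app X,
    (TStructure.t.truncGEπ 1).app X,
    (TStructure.t.truncGEδLT 1).app X ≫ i.inv⟦(1 : ℤ)⟧', ?_, (isGE_iff _ _).2 fun q hq => ?_⟩
  · refine isomorphic_distinguished _ hT _ (Triangle.isoMk _ _ i (Iso.refl _) (Iso.refl _) ?_ ?_ ?_)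
    · exact Category.comp_id _
    · exact (Category.comp_id _).trans (Category.id_comp _).symm
    · refine Eq.trans ?_ (Category.id_comp _).symm
      show ((TStructure.t.truncGEδLT 1).app X ≫ i.inv⟦(1 : ℤ)⟧') ≫ i.hom⟦(1 : ℤ)⟧' = _
      rw [Category.assoc, ← Functor.map_comp, i.inv_hom_id, CategoryTheory.Functor.map_id]
      exact Category.comp_id _
  · by_cases hq' : q < 1
    · have : ((TStructure.t.truncGE 1).obj X).IsGE 1 := inferInstanceAs (TStructure.t.IsGE _ _)
      exact isZero_of_isGE _ 1 q hq'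
    · have := H9Misc.isIso_map_truncGEπ 1 q (by omega) X
      refine IsZero.of_iso ?_ (asIso ((homologyFunctor B q).map ((TStructure.t.truncGEπ 1).app X))).symm
      obtain ⟨e⟩ := h1 q.toNat
      rw [show q = (q.toNat : ℤ) by omega]
      exact (h q.toNat (by omega) (by omega)).of_iso e

end Groth.Agent.SiteCmpLib.Cmp
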