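import Groth.Agent.SiteCmpLib.Cmp.PullClass
import Groth.Agent.SiteCmpLib.Cmp.Sections
import Groth.Agent.SiteCmpLib.Cmp.Derived
import Groth.Agent.H9Misc.TelLocal

/-!
# Killing classes equalized on a covering
-/

set_option autoImplicit false

universe u

open CategoryTheory CategoryTheory.Limits Opposite DerivedCategory

attribute [local instance] HasDerivedCategory.standard

namespace Groth.Agent.SiteCmpLib.Cmp

open Secs (RG)

variable {C : Type u} [SmallCategory C] {J J' : GrothendieckTopology C} {X Y : C} (f : X ⟶ Y)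
  (hpb : ∀ ⦃Y' : C⦄ (g : Y' ⟶ Y), ∃ (W : C) (p : W ⟶ Y') (q : W ⟶ X), IsPullback p q g f)
  (hcov : Sieve.ofArrows (fun _ : PUnit.{u + 1} => X) (fun _ => f) ∈ J Y)
  (F : Sh J' Y)


section Transpose

universe v₁ u₁ v₂ u₂

variable {A : Type u₁} [Category.{v₁} A] {D : Type u₂} [Category.{v₂} D] [Preadditive D]
  {S₀ : A ⥤ D} {L : A ⥤ A} {LD RD : D ⥤ D} (a : LD ⊣ RD) [RD.Additive] (i : S₀ ⋙ LD ≅ L ⋙ S₀)
  {E R : D} (c : RD.obj E ≅ R)

/-- Transposition of a class along an adjunction. -/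
noncomputable def transp {Q P : A} (κ : Q ⟶ L.obj P) [IsIso κ] (x : S₀.obj Q ⟶ E) : S₀.obj P ⟶ R :=
  a.homEquiv _ _ (i.hom.app P ≫ S₀.map (inv κ) ≫ x) ≫ c.hom

omit [RD.Additive] in
lemma transp_naturality {Q P Q' P' : A} (κ : Q ⟶ L.obj P) [IsIso κ] (κ' : Q' ⟶ L.obj P') [IsIso κ']
    (g : P' ⟶ P) (h : Q' ⟶ Q) (e : h ≫ κ = κ' ≫ L.map g) (x : S₀.obj Q ⟶ E) :
    S₀.map g ≫ transp a i c κ x = transp a i c κ' (S₀.map h ≫ x) := by
  have e1 : L.map g ≫ inv κ = inv κ' ≫ h := by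
    rw [IsIso.eq_inv_comp, ← Category.assoc, IsIso.comp_inv_eq]
    exact e.symm
  have e2 : LD.map (S₀.map g) ≫ i.hom.app P = i.hom.app P' ≫ S₀.map (L.map g) := i.hom.naturality g
  dsimp only [transp]
  rw [← Category.assoc, ← a.homEquiv_naturality_left, reassoc_of% e2, ← S₀.map_comp_assoc, e1,
    S₀.map_comp_assoc]

lemma transp_eq_zero_iff {Q P : A} (κ : Q ⟶ L.obj P) [IsIso κ] (x : S₀.obj Q ⟶ E) :
    transp a i c κ x = 0 ↔ x = 0 := by
  have h0 : a.homEquiv (S₀.obj P) E 0 = 0 := by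
    rw [Adjunction.homEquiv_unit, Functor.map_zero, comp_zero]
  constructor
  · intro h
    have h1 := (cancel_mono c.hom).1 (h.trans zero_comp.symm)
    have h2 := (a.homEquiv _ _).injective (h1.trans h0.symm)
    have h3 := (cancel_epi (i.hom.app P)).1 (h2.trans comp_zero.symm)
    exact (cancel_epi (S₀.map (inv κ))).1 (h3.trans comp_zero.symm)
  · rintro rfl
    show _ ≫ c.hom = 0
    rw [comp_zero, comp_zero, h0, zero_comp]

end Transpose

section

variable [((dirIm J' f).mapHomotopyCategory (ComplexShape.up ℤ) ⋙ Qh).HasRightDerivedFunctor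
      (HomotopyCategory.quasiIso (Sh J' X) (ComplexShape.up ℤ))]
  (b' : (restr J' f).mapDerivedCategory ⊣ RG (dirIm J' f))

/-- The derived composite adjunction. -/
noncomputable abbrev derivedPullAdj :
    (restr J' f).mapDerivedCategory ⋙ (extZero J' f).mapDerivedCategory ⊣
      (restr J' f).mapDerivedCategory ⋙ RG (dirIm J' f) :=
  b'.comp (H9Misc.TelLocal.derivedAdjunction (extZeroAdj J' f))

/-- `L P = L P` in a single degree. -/
noncomputable def pullSingleIso :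
    singleFunctor (Sh J' Y) 0 ⋙ (restr J' f).mapDerivedCategory ⋙ (extZero J' f).mapDerivedCategory ≅
      pullShriek J' f ⋙ singleFunctor (Sh J' Y) 0 :=
  (Functor.associator _ _ _).symm ≪≫
    Functor.isoWhiskerRight ((restr J' f).mapDerivedCategorySingleFunctor 0) _ ≪≫
    Functor.associator _ _ _ ≪≫
    Functor.isoWhiskerLeft _ ((extZero J' f).mapDerivedCategorySingleFunctor 0) ≪≫
    (Functor.associator _ _ _).symm

variable {E R : DerivedCategory (Sh J' Y)}
  (c : ((restr J' f).mapDerivedCategory ⋙ RG (dirIm J' f)).obj E ≅ R)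

include b' c in
/-- Classes on base changes give classes with values in the direct image. -/
lemma exists_clsT :
    ∃ T : ∀ (U : Over Y) (W : C) (p : W ⟶ U.left) (q : W ⟶ X), IsPullback p q U.hom f →
        ((singleFunctor (Sh J' Y) 0).obj ((freeF (J'.over Y)).obj ((Over.map f).obj (Over.mk q))) ⟶ E) →
        ((singleFunctor (Sh J' Y) 0).obj ((freeF (J'.over Y)).obj U) ⟶ R),
      (∀ U W p q (hW : IsPullback p q U.hom f) x, T U W p q hW x = 0 ↔ x = 0) ∧
      ∀ (U : Over Y) W p q (hW : IsPullback p q U.hom f) (U' : Over Y) W' p' q' (hW' : IsPullback p' q' U'.hom f)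
        (g : U' ⟶ U) (k : Over.mk q' ⟶ Over.mk q), k.left ≫ p = p' ≫ Over.Hom.left g → ∀ x,
        (singleFunctor (Sh J' Y) 0).map ((freeF (J'.over Y)).map g) ≫ T U W p q hW x =
          T U' W' p' q' hW' ((singleFunctor (Sh J' Y) 0).map ((freeF (J'.over Y)).map ((Over.map f).map k)) ≫ x) := by
  have := (derivedPullAdj f b').right_adjoint_additive
  exact ⟨fun U W p q hW x => transp (derivedPullAdj f b') (pullSingleIso f) c (kap J' f hW) x,
    fun U W p q hW x => transp_eq_zero_iff (derivedPullAdj f b') (pullSingleIso f) c (kap J' f hW) x,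
    fun U W p q hW U' W' p' q' hW' g k hk x =>
      transp_naturality (derivedPullAdj f b') (pullSingleIso f) c (kap J' f hW) (kap J' f hW') _ _
        (kap_naturality J' f hW hW' g k hk) x⟩

end

include hpb hcov in
theorem exists_cover_kill (n : ℕ)
    (hS : Presheaf.IsSheaf (J.over Y) (((dirIm J' f).rightDerived (n + 1)).obj ((restr J' f).obj F)).obj)
    (θ : CohSite.HU F (n + 1) (Over.mk f))
    (hθ : ∀ (W : C) (p q : W ⟶ X) (hW : IsPullback p q f f),
      CohSite.res F (n + 1) (Over.homMk p rfl : Over.mk (p ≫ f) ⟶ Over.mk f) θ =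
      CohSite.res F (n + 1) (Over.homMk q hW.w.symm : Over.mk (p ≫ f) ⟶ Over.mk f) θ) :
    ∃ (ι : Type u) (Z : ι → C) (g : ∀ i, Z i ⟶ Y), Sieve.ofArrows Z g ∈ J' Y ∧
      ∀ (i : ι) (W : C) (p : W ⟶ Z i) (q : W ⟶ X), IsPullback p q (g i) f →
        CohSite.res F (n + 1) (Over.homMk q rfl : Over.mk (q ≫ f) ⟶ Over.mk f) θ = 0 := by
  have := hasRDF (dirIm J' f)
  obtain ⟨b'⟩ := nonempty_adj_RG (restrAdj J' f)
  let m : ℤ := ((n + 1 : ℕ) : ℤ)
  let sF := (singleFunctor (Sh J' Y) 0).obj F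
  let RX := (RG (dirIm J' f)).obj ((restr J' f).mapDerivedCategory.obj sF)
  obtain ⟨c₂⟩ := Secs.nonempty_shift_RG (dirIm J' f) ((restr J' f).mapDerivedCategory.obj sF) m
  let c : ((restr J' f).mapDerivedCategory ⋙ RG (dirIm J' f)).obj (sF⟦m⟧) ≅ RX⟦m⟧ :=
    (RG (dirIm J' f)).mapIso (((restr J' f).mapDerivedCategory.commShiftIso m).app sF) ≪≫ c₂
  let S := abSecs (J'.over Y)
  let θD : S.PD (Over.mk f) ⟶ sF⟦m⟧ := classEquiv F (n + 1) (Over.mk f) θ
  have hres : ∀ {V : Over Y} (k : V ⟶ Over.mk f),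
      classEquiv F (n + 1) V (CohSite.res F (n + 1) k θ) =
        (singleFunctor (Sh J' Y) 0).map (S.P.map k) ≫ θD := fun k => classEquiv_res F (n + 1) k θ
  let U₀ : Over Y := Over.mk (𝟙 Y)
  have hW₀ : IsPullback f (𝟙 X) U₀.hom f :=
    IsPullback.of_id_snd
  let h₀ : (Over.map f).obj (Over.mk (𝟙 X)) ⟶ Over.mk f :=
    Over.homMk (𝟙 X) (by exact rfl)
  obtain ⟨T, Tzero, Tnat⟩ := exists_clsT f b' c
  let ξ := T U₀ X f (𝟙 X) hW₀ ((singleFunctor (Sh J' Y) 0).map (S.P.map h₀) ≫ θD)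
  let s := S.cls RX m U₀ ξ
  let G : Sh J' Y := (homologyFunctor (Sh J' Y) m).obj RX
  have hG : Presheaf.IsSheaf (J.over Y) G.obj := by
    obtain ⟨h1, -⟩ := Secs.nonempty_homology_RG_single (dirIm J' f) ((restr J' f).obj F)
    obtain ⟨e1⟩ := h1 (n + 1)
    let i : G ≅ ((dirIm J' f).rightDerived (n + 1)).obj ((restr J' f).obj F) :=
      (homologyFunctor (Sh J' Y) m).mapIso ((RG (dirIm J' f)).mapIso
        (((restr J' f).mapDerivedCategorySingleFunctor 0).app F)) ≪≫ e1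
    exact (Presheaf.isSheaf_of_iso_iff ((sheafToPresheaf _ _).mapIso i)).2 hS
  let gf : Over.mk f ⟶ U₀ := Over.homMk f (Category.comp_id f)
  have hs1 : (G.obj.map gf.op).hom s = 0 := by
    have h0 : S.cls sF m (Over.mk f) θD = 0 := by
      have hz : IsZero ((homologyFunctor (Sh J' Y) m).obj sF) := isZero_of_isLE sF 0 m (by omega)
      exact congrArg (fun q : (S.HDs sF m) ⟶ (S.HDs sF m) => (q.hom.app (op (Over.mk f))).hom
        (S.cls sF m (Over.mk f) θD)) ((IsZero.iff_id_eq_zero _).1 hz)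
    obtain ⟨R, hR, hkill⟩ := S.exists_cover_eq_zero sF m (Over.mk f) θD h0
    refine eq_zero_of_sieve J' G R hR _ fun {Z} g hg => ?_
    rw [← ConcreteCategory.comp_apply, ← Functor.map_comp, ← op_comp]
    show ((S.HDs RX m).obj.map (g ≫ gf).op).hom (S.cls RX m U₀ ξ) = 0
    rw [← S.cls_res]
    suffices (singleFunctor (Sh J' Y) 0).map (S.P.map (g ≫ gf)) ≫ ξ = 0 by
      rw [this, map_zero]
    obtain ⟨W', p', q', hW'⟩ := hpb Z.hom
    obtain ⟨W, p, q, hW⟩ := hpb f
    let k : Over.mk q' ⟶ Over.mk (𝟙 X) := Over.homMk q' (Category.comp_id q')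
    erw [Tnat U₀ X f (𝟙 X) hW₀ _ W' p' q' hW' (g ≫ gf) k (by
      show q' ≫ f = p' ≫ g.left ≫ f
      rw [← hW'.w]; exact congrArg (p' ≫ ·) (Over.w g).symm)]
    refine (Tzero _ W' p' q' hW' _).2 ?_
    let v : W' ⟶ W := hW.lift (p' ≫ g.left) q' (by
      rw [Category.assoc, ← hW'.w]; exact congrArg (p' ≫ ·) (Over.w g))
    have hpq : (singleFunctor (Sh J' Y) 0).map (S.P.map (Over.homMk p rfl : Over.mk (p ≫ f) ⟶ Over.mk f)) ≫ θD =
        (singleFunctor (Sh J' Y) 0).map (S.P.map (Over.homMk q hW.w.symm : Over.mk (p ≫ f) ⟶ Over.mk f)) ≫ θD := by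
      rw [← hres, ← hres, hθ W p q hW]
    let vv : (Over.map f).obj (Over.mk q') ⟶ Over.mk (p ≫ f) := Over.homMk v (by
      show v ≫ p ≫ f = q' ≫ f
      rw [← Category.assoc, hW.lift_fst, Category.assoc, ← hW'.w]
      exact congrArg (p' ≫ ·) (Over.w g))
    let pz : (Over.map f).obj (Over.mk q') ⟶ Z := Over.homMk p' hW'.w
    have e3 : (Over.map f).map k ≫ h₀ = vv ≫ (Over.homMk q hW.w.symm : Over.mk (p ≫ f) ⟶ Over.mk f) :=
      Over.OverMorphism.ext ((Category.comp_id _).trans (hW.lift_snd _ _ _).symm)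
    have e4 : vv ≫ (Over.homMk p rfl : Over.mk (p ≫ f) ⟶ Over.mk f) = pz ≫ g :=
      Over.OverMorphism.ext (hW.lift_fst _ _ _)
    rw [← Category.assoc, ← Functor.map_comp, ← Functor.map_comp, e3, Functor.map_comp,
      Functor.map_comp, Category.assoc, ← hpq, ← Category.assoc, ← Functor.map_comp, ← Functor.map_comp,
      e4, Functor.map_comp, Functor.map_comp, Category.assoc, hkill Z g hg, comp_zero]
  have hs : s = 0 := by
    let GJ : Sh J Y := ⟨G.obj, hG⟩
    refine eq_zero_of_cover J GJ (T := U₀) (Sieve.ofArrows (fun _ : PUnit.{u + 1} => X) (fun _ => f))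
      hcov s fun {Z} g hg => ?_
    obtain ⟨_, k, _, ⟨_⟩, e⟩ := hg
    let k' : Z ⟶ Over.mk f := Over.homMk k (by
      show k ≫ f = Z.hom
      rw [e]; exact (Category.comp_id _).symm.trans (Over.w g))
    rw [show g = k' ≫ gf from Over.OverMorphism.ext e.symm]
    show (G.obj.map (k' ≫ gf).op).hom s = 0
    rw [op_comp, Functor.map_comp]
    exact (congrArg (G.obj.map k'.op).hom hs1).trans (map_zero _)
  obtain ⟨R, hR, hkill⟩ := S.exists_cover_eq_zero RX m U₀ ξ hs
  refine ⟨Σ (Z : Over Y), {g : Z ⟶ U₀ // R g}, fun i => i.1.left, fun i => i.1.hom, ?_,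
    fun i W p q hW => ?_⟩
  · have hR' : Sieve.overEquiv U₀ R ∈ J' Y := hR
    refine J'.superset_covering (fun V k hk => ?_) hR'
    obtain ⟨Z, g, a, hg, e⟩ := hk
    refine ⟨Z.left, a, Z.hom, ?_, ?_⟩
    · exact ⟨(⟨Z, g, hg⟩ : Σ (Z : Over Y), {g : Z ⟶ U₀ // R g})⟩
    · rw [e]
      exact congrArg (a ≫ ·) ((Category.comp_id _).symm.trans (Over.w g)).symm
  · apply (classEquiv F (n + 1) _).injective
    rw [map_zero, hres]
    let k : Over.mk q ⟶ Over.mk (𝟙 X) := Over.homMk q (Category.comp_id q)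
    have h1 : T i.1 W p q hW ((singleFunctor (Sh J' Y) 0).map (S.P.map ((Over.map f).map k)) ≫
        (singleFunctor (Sh J' Y) 0).map (S.P.map h₀) ≫ θD) = 0 := by
      erw [← Tnat U₀ X f (𝟙 X) hW₀ i.1 W p q hW i.2.1 k (by
        show q ≫ f = p ≫ i.2.1.left
        rw [← hW.w]
        exact congrArg (p ≫ ·) ((Category.comp_id _).symm.trans (Over.w i.2.1)).symm)]
      exact hkill _ i.2.1 i.2.2
    have h2 := (Tzero i.1 W p q hW _).1 h1
    rw [← Category.assoc, ← Functor.map_comp, ← Functor.map_comp] at h2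
    have e5 : (Over.map f).map k ≫ h₀ = (Over.homMk q rfl : Over.mk (q ≫ f) ⟶ Over.mk f) :=
      Over.OverMorphism.ext (Category.comp_id _)
    rw [e5] at h2
    exact h2

end Groth.Agent.SiteCmpLib.Cmp
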