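import Groth.Agent.SiteCmpLib.Secs.Cls
import Groth.Agent.SiteBase.Sections
import Groth.Prelude.Def_CohSite

/-!
# Sections and cohomology classes of abelian sheaves
-/

set_option autoImplicit false

universe w u

open CategoryTheory CategoryTheory.Limits Opposite DerivedCategory

namespace Groth.Agent.SiteCmpLib.Cmp

open Secs (PD)

variable {C : Type u} [SmallCategory C] (J : GrothendieckTopology C)

/-- The free abelian sheaves on representables, as a functor. -/
noncomputable abbrev freeF : C ⥤ Sheaf J AddCommGrpCat.{u} :=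
  yoneda ⋙ (Functor.whiskeringRight Cᵒᵖ (Type u) AddCommGrpCat.{u}).obj AddCommGrpCat.free.{u} ⋙
    presheafToSheaf J AddCommGrpCat.{u}

/-- The sections structure on abelian sheaves. -/
noncomputable abbrev abSecs : Secs J (Sheaf J AddCommGrpCat.{u}) where
  Φ := 𝟭 _
  additive := inferInstance
  preservesFiniteLimits := inferInstance
  preservesFiniteColimits := inferInstance
  reflectsIso := inferInstance
  P := freeF J
  sec U F := SiteBase.secEquiv J U F
  sec_comp U {_ _} φ g := SiteBase.secEquiv_comp U φ g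
  sec_map {_ _} f {_} φ := SiteBase.secEquiv_freeSheafMap f φ

variable {J} [HasDerivedCategory.{w} (Sheaf J AddCommGrpCat.{u})]

/-- Cohomology classes as morphisms in the derived category. -/
noncomputable def classEquiv (F : Sheaf J AddCommGrpCat.{u}) (n : ℕ) (U : C) :
    CohSite.HU F n U ≃+
      ((abSecs J).PD U ⟶ ((singleFunctor (Sheaf J AddCommGrpCat.{u}) 0).obj F)⟦(n : ℤ)⟧) :=
  Abelian.Ext.homAddEquiv (X := CohCx.freeSheaf J U) (Y := F) (n := n)

lemma classEquiv_res (F : Sheaf J AddCommGrpCat.{u}) (n : ℕ) {U V : C} (f : V ⟶ U)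
    (x : CohSite.HU F n U) :
    classEquiv F n V (CohSite.res F n f x) =
      (singleFunctor (Sheaf J AddCommGrpCat.{u}) 0).map ((freeF J).map f) ≫ classEquiv F n U x := by
  show ((Abelian.Ext.mk₀ ((freeF J).map f)).comp (x : Abelian.Ext (CohCx.freeSheaf J U) F n)
    (zero_add n)).hom = _
  refine (Abelian.Ext.comp_hom _ _ _).trans ?_
  rw [Abelian.Ext.mk₀_hom]
  exact ShiftedHom.mk₀_comp ((0 : ℕ) : ℤ) (by simp) ((singleFunctor (Sheaf J AddCommGrpCat.{u}) 0).map ((freeF J).map f))
    (classEquiv F n U x)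

end Groth.Agent.SiteCmpLib.Cmp
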