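import Groth.Agent.SiteCmpLib.Cmp.Compare
import Groth.Agent.SiteCmpLib.Cmp.AbSecs

/-!
# Cohomology in the two topologies
-/

set_option autoImplicit false

universe w₁ w₂ v₁ v₂ u₁ u₂ u

open CategoryTheory CategoryTheory.Limits Opposite DerivedCategory

namespace Groth.Agent.SiteCmpLib.Cmp

open Secs (RG)

section

variable {A : Type u₁} [Category.{v₁} A] [Abelian A] [IsGrothendieckAbelian.{v₁} A]
  {B : Type u₂} [Category.{v₂} B] [Abelian B] [HasDerivedCategory.{w₁} A]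
  [HasDerivedCategory.{w₂} B]
  {e : B ⥤ A} {ε : A ⥤ B} (ae : e ⊣ ε) [ε.Additive] [PreservesFiniteLimits ε] [e.Additive]
  [PreservesFiniteLimits e] [PreservesFiniteColimits e]
  [(ε.mapHomotopyCategory (ComplexShape.up ℤ) ⋙ Qh).HasRightDerivedFunctor
      (HomotopyCategory.quasiIso A (ComplexShape.up ℤ))]

include ae in
/-- Hom groups into an acyclic object computed on either side. -/
lemma nonempty_homAddEquiv_of_acyclic (Q : B) (Q' : A) (iQ : e.obj Q ≅ Q') (F : B)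
    (hu : IsIso (ae.unit.app F))
    (hv : ∀ p : ℕ, 1 ≤ p → IsZero ((ε.rightDerived p).obj (e.obj F))) (n : ℤ) :
    Nonempty (((singleFunctor B 0).obj Q ⟶ ((singleFunctor B 0).obj F)⟦n⟧) ≃+
      ((singleFunctor A 0).obj Q' ⟶ ((singleFunctor A 0).obj (e.obj F))⟦n⟧)) := by
  obtain ⟨a⟩ := nonempty_adj_RG ae
  let X := (singleFunctor A 0).obj (e.obj F)
  obtain ⟨h1, -⟩ := Secs.nonempty_homology_RG_single ε (e.obj F)
  have : ((RG ε).obj X).IsGE 0 := Secs.isGE_RG ε X 0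
  have : ((RG ε).obj X).IsLE 0 := (isLE_iff _ _).2 fun q hq => by
    obtain ⟨e1⟩ := h1 q.toNat
    rw [show q = (q.toNat : ℤ) by omega]
    exact (hv q.toNat (by omega)).of_iso e1
  obtain ⟨N, ⟨k⟩⟩ := exists_iso_singleFunctor_obj_of_isGE_of_isLE ((RG ε).obj X) 0
  obtain ⟨k0⟩ := nonempty_homology_RG_lowest ε X 0
  let jF : F ≅ N := @asIso _ _ _ _ (ae.unit.app F) hu ≪≫
    ε.mapIso ((singleFunctorCompHomologyFunctorIso A 0).app (e.obj F)).symm ≪≫ k0.symm ≪≫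
    (homologyFunctor B 0).mapIso k ≪≫ (singleFunctorCompHomologyFunctorIso B 0).app N
  obtain ⟨c⟩ := Secs.nonempty_shift_RG ε X n
  let i : ((singleFunctor B 0).obj F)⟦n⟧ ≅ (RG ε).obj (X⟦n⟧) :=
    (shiftFunctor _ n).mapIso ((singleFunctor B 0).mapIso jF ≪≫ k.symm) ≪≫ c.symm
  let l : e.mapDerivedCategory.obj ((singleFunctor B 0).obj Q) ≅ (singleFunctor A 0).obj Q' :=
    (e.mapDerivedCategorySingleFunctor 0).app Q ≪≫ (singleFunctor A 0).mapIso iQ
  let e₁ : ((singleFunctor B 0).obj Q ⟶ ((singleFunctor B 0).obj F)⟦n⟧) ≃+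
      ((singleFunctor B 0).obj Q ⟶ (RG ε).obj (X⟦n⟧)) :=
    { toFun := fun x => x ≫ i.hom
      invFun := fun x => x ≫ i.inv
      left_inv := fun x => by simp
      right_inv := fun x => by simp
      map_add' := fun x y => Preadditive.add_comp _ _ _ _ _ _ }
  let e₂ : (e.mapDerivedCategory.obj ((singleFunctor B 0).obj Q) ⟶ X⟦n⟧) ≃+
      ((singleFunctor A 0).obj Q' ⟶ X⟦n⟧) :=
    { toFun := fun x => l.inv ≫ x
      invFun := fun x => l.hom ≫ x
      left_inv := fun x => by simp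
      right_inv := fun x => by simp
      map_add' := fun x y => Preadditive.comp_add _ _ _ _ _ _ }
  exact ⟨e₁.trans ((a.homAddEquiv _ _).symm.trans e₂)⟩

end

variable {C : Type u} [SmallCategory C] {J J' : GrothendieckTopology C} (h : J' ≤ J)

attribute [local instance] HasDerivedCategory.standard

lemma nonempty_free_iso {X : C} (U : Over X) :
    Nonempty ((epsInvX h X).obj ((freeF (J'.over X)).obj U) ≅ (freeF (J.over X)).obj U) := by
  let Φ : ∀ M : Sh J X, ((epsInvX h X).obj ((freeF (J'.over X)).obj U) ⟶ M) ≃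
      ((freeF (J.over X)).obj U ⟶ M) := fun M =>
    ((epsAdjX h X).homEquiv _ M).trans
      ((SiteBase.secEquiv (J'.over X) U ((epsX h X).obj M)).toEquiv.trans
        (SiteBase.secEquiv (J.over X) U M).symm.toEquiv)
  have hΦ : ∀ {M N : Sh J X} (φ : (epsInvX h X).obj ((freeF (J'.over X)).obj U) ⟶ M) (g : M ⟶ N),
      Φ N (φ ≫ g) = Φ M φ ≫ g := fun {M N} φ g => by
    refine Eq.trans ?_ (SiteBase.secEquiv_symm_comp _ _ g).symm
    refine congrArg (SiteBase.secEquiv (J.over X) U N).symm ?_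
    refine (congrArg (SiteBase.secEquiv (J'.over X) U _) ((epsAdjX h X).homEquiv_naturality_right φ g)).trans ?_
    exact SiteBase.secEquiv_comp _ _ _
  let κ := Φ _ (𝟙 _)
  have hκ : ∀ {M : Sh J X} (φ : (epsInvX h X).obj ((freeF (J'.over X)).obj U) ⟶ M),
      κ ≫ φ = Φ M φ := fun φ => by rw [← hΦ, Category.id_comp]
  obtain ⟨g, hg⟩ : ∃ g, κ ≫ g = 𝟙 _ := ⟨(Φ _).symm (𝟙 _), by rw [hκ, Equiv.apply_symm_apply]⟩
  exact ⟨(⟨κ, g, hg, (Φ _).injective (by
    rw [← hκ, ← hκ, ← Category.assoc, hg, Category.id_comp, Category.comp_id])⟩ : _ ≅ _).symm⟩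

variable (P : MorphismProperty C) (A' : ∀ X : C, ObjectProperty (Sh J' X))
  [∀ X : C, WSerre.IsWeakSerre (A' X)]
  (h2 : ∀ ⦃X Y : C⦄ (f : X ⟶ Y) (F' : Sh J' Y), A' Y F' → A' X ((restr J' f).obj F'))
  (h3 : ∀ (X : C) (F' : Sh J' X), A' X F' → Presheaf.IsSheaf (J.over X) F'.obj)
  (h4 : ∀ ⦃X Y : C⦄ (f : X ⟶ Y) [(dirIm J' f).Additive], P f → ∀ (F' : Sh J' X), A' X F' →
    ∀ i : ℕ, A' Y (((dirIm J' f).rightDerived i).obj F'))
  (h5 : ∀ (U : C) (S : Sieve U), S ∈ J U → ∃ (ι : Type u) (V : ι → C) (v : ∀ j, V j ⟶ U),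
    Sieve.ofArrows V v ∈ J' U ∧ ∀ j, ∃ (W : C) (w : W ⟶ V j), P w ∧
      Sieve.ofArrows (fun _ : PUnit.{u + 1} => W) (fun _ => w) ∈ J (V j) ∧
      ∃ (κ : Type u) (Wk : κ → C) (wk : ∀ k, Wk k ⟶ W), Sieve.ofArrows Wk wk ∈ J' W ∧
        ∀ k, S.arrows (wk k ≫ w ≫ v j))

include h2 h3 h4 h5 in
theorem nonempty_addEquiv_cohomology {X : C} (U : Over X) (F' : Sh J' X) (hF' : A' X F') (n : ℕ) :
    Nonempty (CohSite.HU F' n U ≃+ CohSite.HU ((epsInvX h X).obj F') n U) := by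
  have := hasRDF (epsX h X)
  have hu := fix_of_isSheaf h F' (h3 X F' hF')
  have hA : A' X ((epsX h X).obj ((epsInvX h X).obj F')) :=
    (A' X).prop_of_iso (@asIso _ _ _ _ _ hu) hF'
  obtain ⟨iQ⟩ := nonempty_free_iso h U
  obtain ⟨E⟩ := nonempty_homAddEquiv_of_acyclic (epsAdjX h X) _ _ iQ F' hu
    (fun p hp => rightDerived_eps_isZero h P A' h2 h3 h4 h5 X _ hA p hp) (n : ℤ)
  exact ⟨(classEquiv F' n U).trans (E.trans (classEquiv _ n U).symm)⟩

end Groth.Agent.SiteCmpLib.Cmp
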