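import Groth.Agent.SiteCmpLib.Cmp.Derived

/-!
# A fully faithful right adjoint of an exact functor and the objects fixed by the unit
-/

set_option autoImplicit false

universe w₁ w₂ v₁ v₂ u₁ u₂

open CategoryTheory CategoryTheory.Limits DerivedCategory Pretriangulated

namespace Groth.Agent.SiteCmpLib.Cmp

open Secs (RG)

variable {A : Type u₁} [Category.{v₁} A] [Abelian A]
  {B : Type u₂} [Category.{v₂} B] [Abelian B]
  {e : B ⥤ A} {ε : A ⥤ B} (ae : e ⊣ ε) [ε.Full] [ε.Faithful]

omit [Abelian A] [Abelian B] in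
lemma fix_obj (N : A) : IsIso (ae.unit.app (ε.obj N)) := by
  have h : IsIso (ae.unit.app (ε.obj N) ≫ ε.map (ae.counit.app N)) :=
    (ae.right_triangle_components N).symm ▸ IsIso.id _
  exact IsIso.of_isIso_comp_right (ae.unit.app (ε.obj N)) (ε.map (ae.counit.app N))

omit [Abelian A] [Abelian B] [ε.Full] [ε.Faithful] in
lemma fix_of_iso {M N : B} (i : M ≅ N) (h : IsIso (ae.unit.app M)) : IsIso (ae.unit.app N) :=
  (NatTrans.isIso_app_iff_of_iso ae.unit i).1 h

omit [Abelian A] [Abelian B] [ε.Full] [ε.Faithful] in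
lemma sep_of_mono {M N : B} (i : M ⟶ N) [Mono i] (h : Mono (ae.unit.app N)) :
    Mono (ae.unit.app M) := by
  have e1 : i ≫ ae.unit.app N = ae.unit.app M ≫ ε.map (e.map i) := ae.unit.naturality i
  have : Mono (ae.unit.app M ≫ ε.map (e.map i)) := e1 ▸ mono_comp i (ae.unit.app N)
  exact mono_of_mono _ (ε.map (e.map i))

variable [e.Additive] [PreservesFiniteLimits e] [PreservesFiniteColimits e] [ε.Additive]
  {P : ObjectProperty B} [WSerre.IsWeakSerre P] (hJ : ∀ M, P M → IsIso (ae.unit.app M))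

include ae hJ in
omit [PreservesFiniteLimits e] [e.Additive] in
/-- Cokernels of morphisms between objects with image in the class. -/
lemma prop_coker [e.Additive] {S : ShortComplex A} (hS : S.Exact) [Epi S.g] (h₁ : P (ε.obj S.X₁))
    (h₂ : P (ε.obj S.X₂)) : P (ε.obj S.X₃) ∧ Epi (ε.map S.g) := by
  let c := cokernel (ε.map S.f)
  let d : c ⟶ ε.obj S.X₃ := cokernel.desc _ (ε.map S.g) (by rw [← ε.map_comp, S.zero, ε.map_zero])
  have hc : P c := P.prop_cokernel _ h₁ h₂
  let T := (S.map ε).map e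
  have := Adjunction.counit_isIso_of_R_fully_faithful ae
  let ci : ε ⋙ e ≅ 𝟭 A := asIso ae.counit
  let t : T ≅ S := ShortComplex.isoMk (ci.app S.X₁) (ci.app S.X₂)
    (ci.app S.X₃) (ae.counit.naturality S.f).symm (ae.counit.naturality S.g).symm
  have hT : T.Exact := ShortComplex.exact_of_iso t.symm hS
  have : Epi T.g := by
    have e1 : T.g ≫ t.hom.τ₃ = t.hom.τ₂ ≫ S.g := t.hom.comm₂₃.symm
    have : Epi (t.hom.τ₂ ≫ S.g) := epi_comp _ _
    have h2 : T.g = (t.hom.τ₂ ≫ S.g) ≫ inv t.hom.τ₃ := by rw [← e1]; simp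
    rw [h2]; infer_instance
  have hd : IsIso (e.map d) := by
    let hc2 := CokernelCofork.mapIsColimit _ (cokernelIsCokernel (ε.map S.f)) e
    have h3 : e.map d = (hc2.coconePointUniqueUpToIso hT.gIsCokernel).hom := by
      refine Cofork.IsColimit.hom_ext hc2 ?_
      refine Eq.trans ?_ (IsColimit.comp_coconePointUniqueUpToIso_hom hc2 hT.gIsCokernel
        WalkingParallelPair.one).symm
      exact (e.map_comp _ _).symm.trans (congrArg e.map (cokernel.π_desc _ _ _))
    rw [h3]; exact Iso.isIso_hom _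
  have := hJ c hc
  have := fix_obj ae S.X₃
  have hd' : IsIso d := by
    have : IsIso (d ≫ ae.unit.app (ε.obj S.X₃)) := by
      have e2 : d ≫ ae.unit.app _ = ae.unit.app c ≫ ε.map (e.map d) := ae.unit.naturality d
      rw [e2]; infer_instance
    exact IsIso.of_isIso_comp_right d (ae.unit.app (ε.obj S.X₃))
  refine ⟨P.prop_of_iso (asIso d) hc, ?_⟩
  rw [← cokernel.π_desc (ε.map S.f) (ε.map S.g) (by rw [← ε.map_comp, S.zero, ε.map_zero])]
  exact epi_comp _ _

variable [IsGrothendieckAbelian.{v₁} A] [HasDerivedCategory.{w₁} A] [HasDerivedCategory.{w₂} B]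
  [(ε.mapHomotopyCategory (ComplexShape.up ℤ) ⋙ Qh).HasRightDerivedFunctor
      (HomotopyCategory.quasiIso A (ComplexShape.up ℤ))]

omit [WSerre.IsWeakSerre P] in
include ae in
/-- The exact left adjoint recovers cohomology from the right derived functor. -/
lemma nonempty_eH (q : ℤ) :
    Nonempty (RG ε ⋙ homologyFunctor B q ⋙ e ≅ homologyFunctor A q) := by
  have : IsIso ae.counit := NatIso.isIso_of_isIso_app _
  obtain ⟨a, ha⟩ := H9Misc.GPDerived.adj_fullyFaithful ae
  exact ⟨Functor.isoWhiskerLeft _ (KFlatLib.mapDCHomologyIso e q).symm ≪≫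
    (Functor.associator _ _ _).symm ≪≫
    Functor.isoWhiskerRight (@asIso _ _ _ _ a.counit ha) _ ≪≫ Functor.leftUnitor _⟩

omit [e.Additive] [PreservesFiniteLimits e] [PreservesFiniteColimits e] in
lemma fix_lowest [PreservesFiniteLimits ε] (X : DerivedCategory A) (a : ℤ) [X.IsGE a] :
    IsIso (ae.unit.app ((homologyFunctor B a).obj ((RG ε).obj X))) := by
  obtain ⟨i⟩ := nonempty_homology_RG_lowest ε X a
  exact fix_of_iso ae i.symm (fix_obj ae _)

omit [e.Additive] [PreservesFiniteLimits e] [PreservesFiniteColimits e] in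
/-- In low degrees the cohomology of `Rε` is separated. -/
lemma sep_homology [PreservesFiniteLimits ε] (n : ℕ) :
    ∀ (k : ℕ) (a : ℕ) (_ : n < a + k) (X : DerivedCategory A), X.IsGE (a : ℤ) →
      (∀ q : ℕ, q ≤ n → ∀ p : ℕ, 1 ≤ p → p ≤ n →
        IsZero ((ε.rightDerived p).obj ((homologyFunctor A (q : ℤ)).obj X))) →
      ∀ i : ℕ, i ≤ n → Mono (ae.unit.app ((homologyFunctor B (i : ℤ)).obj ((RG ε).obj X))) := by
  intro k
  induction k with
  | zero =>
    intro a ha X hX _ i hi
    have := Secs.isGE_RG ε X a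
    exact ⟨fun g g' _ => (isZero_of_isGE ((RG ε).obj X) (a : ℤ) i (by omega)).eq_of_tgt g g'⟩
  | succ k ih =>
    intro a ha X hX hv i hi
    rcases lt_trichotomy i a with hia | rfl | hia
    · have := Secs.isGE_RG ε X a
      exact ⟨fun g g' _ => (isZero_of_isGE ((RG ε).obj X) (a : ℤ) i (by omega)).eq_of_tgt g g'⟩
    · have := fix_lowest ae X (i : ℤ)
      infer_instance
    · let L := (TStructure.t.truncLT ((a : ℤ) + 1)).obj X
      let R := (TStructure.t.truncGE ((a : ℤ) + 1)).obj X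
      have hR : R.IsGE ((a + 1 : ℕ) : ℤ) := by
        rw [show ((a + 1 : ℕ) : ℤ) = (a : ℤ) + 1 by push_cast; ring]
        exact inferInstanceAs (TStructure.t.IsGE _ _)
      have : L.IsLE (a : ℤ) := TStructure.t.isLE_truncLT_obj X ((a : ℤ) + 1) a (by omega)
      have : TStructure.t.IsGE X (a : ℤ) := hX
      have : L.IsGE (a : ℤ) := inferInstanceAs (TStructure.t.IsGE _ (a : ℤ))
      have hv' : ∀ q : ℕ, q ≤ n → ∀ p : ℕ, 1 ≤ p → p ≤ n →
          IsZero ((ε.rightDerived p).obj ((homologyFunctor A (q : ℤ)).obj R)) := by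
        intro q hq p hp hp'
        by_cases hqa : q ≤ a
        · exact (ε.rightDerived p).map_isZero (isZero_of_isGE R ((a + 1 : ℕ) : ℤ) q (by omega))
        · have := H9Misc.isIso_map_truncGEπ ((a : ℤ) + 1) (q : ℤ) (by omega) X
          exact (hv q hq p hp hp').of_iso ((ε.rightDerived p).mapIso
            (asIso ((homologyFunctor A (q : ℤ)).map ((TStructure.t.truncGEπ ((a : ℤ) + 1)).app X))).symm)
      have hsep := ih (a + 1) (by omega) R hR hv' i hi
      obtain ⟨δ, hδ⟩ := Secs.exists_distinguished_RG ε _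
        (TStructure.t.triangleLTGE_distinguished ((a : ℤ) + 1) X)
      obtain ⟨M, ⟨eM⟩⟩ := exists_iso_singleFunctor_obj_of_isGE_of_isLE L (a : ℤ)
      have hz : IsZero ((homologyFunctor B (i : ℤ)).obj ((RG ε).obj L)) := by
        obtain ⟨e1⟩ := nonempty_homology_RG_single_shift ε M (a : ℤ) i
        obtain ⟨h1, -⟩ := Secs.nonempty_homology_RG_single ε M
        obtain ⟨e2⟩ := h1 (i - a)
        have hM : (homologyFunctor A (a : ℤ)).obj X ≅ M :=
          (have := H9Misc.isIso_map_truncLTι ((a : ℤ) + 1) (a : ℤ) (by omega) X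
           asIso ((homologyFunctor A (a : ℤ)).map ((TStructure.t.truncLTι ((a : ℤ) + 1)).app X))).symm ≪≫
          (homologyFunctor A (a : ℤ)).mapIso eM ≪≫ (singleFunctorCompHomologyFunctorIso A (a : ℤ)).app M
        refine ((hv a (by omega) (i - a) (by omega) (by omega)).of_iso
          ((ε.rightDerived (i - a)).mapIso hM).symm).of_iso ?_
        exact (homologyFunctor B (i : ℤ)).mapIso ((RG ε).mapIso eM) ≪≫ e1 ≪≫
          eqToIso (by rw [Nat.cast_sub (by omega)]) ≪≫ e2
      have hm := (HomologySequence.mono_homologyMap_mor₂_iff _ hδ (i : ℤ)).2 (hz.eq_of_src _ _)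
      exact @sep_of_mono _ _ _ _ _ _ ae _ _ _ hm hsep

omit [WSerre.IsWeakSerre P] in
include ae in
/-- Vanishing of `R¹ε` on the kernel makes `ε` preserve an epimorphism. -/
lemma epi_map_of_vanish [PreservesFiniteLimits ε] {S : ShortComplex A} (hS : S.ShortExact)
    (h : IsZero ((ε.rightDerived 1).obj S.X₁)) : Epi (ε.map S.g) := by
  obtain ⟨δ, hδ⟩ := Secs.exists_distinguished_RG ε _ hS.singleTriangle_distinguished
  obtain ⟨h1, -⟩ := Secs.nonempty_homology_RG_single ε S.X₁
  obtain ⟨e1⟩ := h1 1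
  let v := (singleFunctor A 0).map S.g
  have ha : Epi ((homologyFunctor B 0).map ((RG ε).map v)) :=
    (HomologySequence.epi_homologyMap_mor₂_iff _ hδ 0 1 rfl).2 ((h.of_iso e1).eq_of_tgt _ _)
  obtain ⟨Φ⟩ := nonempty_eH ae 0
  let Ψ : singleFunctor A 0 ⋙ RG ε ⋙ homologyFunctor B 0 ≅ ε := NatIso.ofComponents
    (fun M => (@asIso _ _ _ _ _ (fix_lowest ae ((singleFunctor A 0).obj M) 0)) ≪≫
      ε.mapIso (Φ.app _ ≪≫ (singleFunctorCompHomologyFunctorIso A 0).app M))
    (fun {M N} g => by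
      have e2 := Φ.hom.naturality ((singleFunctor A 0).map g)
      have e3 := (singleFunctorCompHomologyFunctorIso A 0).hom.naturality g
      have e4 := ae.unit.naturality ((homologyFunctor B 0).map ((RG ε).map ((singleFunctor A 0).map g)))
      simp only [Functor.comp_map, Functor.id_map] at e2 e3 e4
      simp only [Iso.trans_hom, asIso_hom, Functor.mapIso_hom, Iso.app_hom, Functor.map_comp,
        Functor.comp_map, Category.assoc]
      erw [← Category.assoc, e4, Category.assoc, ← ε.map_comp, ← ε.map_comp, ← ε.map_comp,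
        ← ε.map_comp]
      congr 2
      erw [← Category.assoc, e2, Category.assoc, e3])
  have h2 : ε.map S.g = Ψ.inv.app S.X₂ ≫ (homologyFunctor B 0).map ((RG ε).map v) ≫ Ψ.hom.app S.X₃ :=
    (Iso.eq_inv_comp (Ψ.app S.X₂)).2 (Ψ.hom.naturality S.g).symm
  rw [h2]
  exact @epi_comp _ _ _ _ _ _ inferInstance _ (@epi_comp _ _ _ _ _ _ ha _ inferInstance)

end Groth.Agent.SiteCmpLib.Cmp
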