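import Groth.Prelude.Def_SiteCmp
import Groth.Agent.SiteBase.LanExact
import Mathlib.CategoryTheory.Sites.Over
import Mathlib.CategoryTheory.Sites.CoverLifting
import Mathlib.CategoryTheory.Adjunction.Unique
import Mathlib.CategoryTheory.Sites.EpiMono

/-!
# Restriction and direct image between localised sites
-/

set_option autoImplicit false

universe u

open CategoryTheory CategoryTheory.Limits Opposite

namespace Groth.Agent.SiteCmpLib.Cmp

variable {C : Type u} [SmallCategory C] (J : GrothendieckTopology C)

/-- Abelian sheaves on a localised site. -/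
abbrev Sh (X : C) : Type (u + 1) := Sheaf (J.over X) AddCommGrpCat.{u}

variable {X Y : C} (f : X ⟶ Y)

/-- Restriction. -/
noncomputable abbrev restr : Sh J Y ⥤ Sh J X := CohSite.push (J.over Y) (J.over X) (Over.map f)

/-- Direct image. -/
noncomputable abbrev dirIm : Sh J X ⥤ Sh J Y :=
  (Over.map f).sheafPushforwardCocontinuous AddCommGrpCat.{u} (J.over X) (J.over Y)

/-- The adjunction between restriction and direct image. -/
noncomputable abbrev restrAdj : restr J f ⊣ dirIm J f :=
  (Over.map f).sheafAdjunctionCocontinuous AddCommGrpCat.{u} (J.over X) (J.over Y)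

instance : (dirIm J f).Additive := (restrAdj J f).right_adjoint_additive

instance : PreservesFiniteColimits (restr J f) :=
  haveI := (restrAdj J f).leftAdjoint_preservesColimits
  inferInstance

instance : PreservesFiniteLimits (restr J f) :=
  haveI := ((Over.map f).sheafAdjunctionContinuous AddCommGrpCat.{u} (J.over X) (J.over Y)).rightAdjoint_preservesLimits
  inferInstance

instance : PreservesFiniteLimits (dirIm J f) :=
  haveI := (restrAdj J f).rightAdjoint_preservesLimits
  inferInstance

section ExtZero

open CostructuredArrow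

lemma costructured_sq_map (T : (Over Y)ᵒᵖ) ⦃i j k : CostructuredArrow (Over.map f).op T⦄ (a : k ⟶ i)
    (b : k ⟶ j) : ∃ l, Nonempty (i ⟶ l) ∧ Nonempty (j ⟶ l) := by
  let r : ∀ i : CostructuredArrow (Over.map f).op T, T.unop.left ⟶ X := fun i =>
    i.hom.unop.left ≫ i.left.unop.hom
  have hr : ∀ {i k : CostructuredArrow (Over.map f).op T} (_ : k ⟶ i), r k = r i := fun {i k} a => by
    have w : i.hom.unop.left ≫ a.left.unop.left = k.hom.unop.left :=
      congrArg (fun q => q.unop.left) (CostructuredArrow.w a)
    show k.hom.unop.left ≫ k.left.unop.hom = i.hom.unop.left ≫ i.left.unop.hom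
    rw [← w, Category.assoc, Over.w]
  let t : T.unop ⟶ (Over.map f).obj (Over.mk (r k)) := Over.homMk (𝟙 _) (by
    refine (Category.id_comp _).trans ?_
    show (k.hom.unop.left ≫ k.left.unop.hom) ≫ f = _
    exact (Category.assoc _ _ _).trans (Over.w k.hom.unop))
  have key : ∀ {i : CostructuredArrow (Over.map f).op T} (_ : r k = r i),
      Nonempty (i ⟶ CostructuredArrow.mk (Y := op (Over.mk (r k))) t.op) := fun {i} h =>
    ⟨CostructuredArrow.homMk (Over.homMk (U := Over.mk (r k)) i.hom.unop.left (by exact h.symm)).op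
      (Quiver.Hom.unop_inj (Over.OverMorphism.ext (by exact Category.id_comp _)))⟩
  exact ⟨_, key (hr a), key (hr b)⟩

lemma costructured_eq_map (T : (Over Y)ᵒᵖ) ⦃i j : CostructuredArrow (Over.map f).op T⦄
    (a b : i ⟶ j) : ∃ k, ∃ h : j ⟶ k, a ≫ h = b ≫ h := by
  have wa : j.hom.unop.left ≫ a.left.unop.left = i.hom.unop.left :=
    congrArg (fun q => q.unop.left) (CostructuredArrow.w a)
  have wb : j.hom.unop.left ≫ b.left.unop.left = i.hom.unop.left :=
    congrArg (fun q => q.unop.left) (CostructuredArrow.w b)
  let t : T.unop ⟶ (Over.map f).obj (Over.mk (j.hom.unop.left ≫ j.left.unop.hom)) :=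
    Over.homMk (𝟙 _) (by
      refine (Category.id_comp _).trans ?_
      exact (Category.assoc _ _ _).trans (Over.w j.hom.unop))
  refine ⟨CostructuredArrow.mk (Y := op (Over.mk (j.hom.unop.left ≫ j.left.unop.hom))) t.op,
    CostructuredArrow.homMk (Over.homMk (U := Over.mk (j.hom.unop.left ≫ j.left.unop.hom))
      j.hom.unop.left rfl).op (Quiver.Hom.unop_inj (Over.OverMorphism.ext (by exact Category.id_comp _))),
    CostructuredArrow.hom_ext _ _ (Quiver.Hom.unop_inj (Over.OverMorphism.ext ?_))⟩
  show j.hom.unop.left ≫ a.left.unop.left = j.hom.unop.left ≫ b.left.unop.left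
  rw [wa, wb]

lemma preservesFiniteLimits_lan_map :
    PreservesFiniteLimits ((Over.map f).op.lan : ((Over X)ᵒᵖ ⥤ AddCommGrpCat.{u}) ⥤ _) := by
  let u := Over.map f
  let adj := u.op.lanAdjunction AddCommGrpCat.{u}
  have : (u.op.lan : ((Over X)ᵒᵖ ⥤ AddCommGrpCat.{u}) ⥤ _).Additive := adj.left_adjoint_additive
  have : PreservesColimitsOfSize.{0, 0} (u.op.lan : ((Over X)ᵒᵖ ⥤ AddCommGrpCat.{u}) ⥤ _) :=
    adj.leftAdjoint_preservesColimits
  rw [Functor.preservesFiniteLimits_iff_forall_exact_map_and_mono]
  intro S hS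
  have := hS.mono_f
  have := hS.epi_g
  refine ⟨hS.exact.map_of_epi_of_preservesCokernel u.op.lan ‹_› inferInstance, ?_⟩
  have : ∀ T, Mono ((u.op.lan.map S.f).app T) := fun T => by
    let ψ := Functor.whiskerLeft (CostructuredArrow.proj u.op T) S.f
    have : ∀ j, Mono (ψ.app j) := fun j => inferInstanceAs (Mono (S.f.app _))
    have := SiteBase.mono_colimMap (costructured_sq_map f T) (costructured_eq_map f T) ψ
    let eF := u.op.leftKanExtensionObjIsoColimit S.X₁ T
    let eG := u.op.leftKanExtensionObjIsoColimit S.X₂ T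
    let A : (u.op.leftKanExtension S.X₁).obj T ⟶ (u.op.leftKanExtension S.X₂).obj T :=
      (u.op.lan.map S.f).app T
    have h : eF.inv ≫ A = colimMap ψ ≫ eG.inv := colimit.hom_ext fun j => by
      rw [Functor.ι_leftKanExtensionObjIsoColimit_inv_assoc, ι_colimMap_assoc,
        Functor.ι_leftKanExtensionObjIsoColimit_inv]
      refine (congrArg ((u.op.leftKanExtensionUnit S.X₁).app j.left ≫ ·)
        ((u.op.lan.map S.f).naturality j.hom)).trans ?_
      exact ((Category.assoc _ _ _).symm.trans (congrArg (· ≫ (u.op.leftKanExtension S.X₂).map j.hom)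
        (NatTrans.congr_app (u.op.lanUnit.naturality S.f) j.left).symm)).trans (Category.assoc _ _ _)
    have : Mono A := by
      rw [show A = eF.hom ≫ colimMap ψ ≫ eG.inv from by rw [← h, Iso.hom_inv_id_assoc]]
      infer_instance
    exact this
  exact NatTrans.mono_of_mono_app _

/-- Extension by zero. -/
noncomputable abbrev extZero : Sh J X ⥤ Sh J Y :=
  (Over.map f).sheafPullback AddCommGrpCat.{u} (J.over X) (J.over Y)

/-- The adjunction between extension by zero and restriction. -/
noncomputable abbrev extZeroAdj : extZero J f ⊣ restr J f :=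
  (Over.map f).sheafAdjunctionContinuous AddCommGrpCat.{u} (J.over X) (J.over Y)

instance : PreservesFiniteLimits (extZero J f) := by
  have := preservesFiniteLimits_lan_map f
  have : PreservesFiniteLimits ((Over.map f).op.lan ⋙ presheafToSheaf (J.over Y) AddCommGrpCat.{u}) :=
    comp_preservesFiniteLimits _ _
  have : PreservesFiniteLimits (Functor.sheafPullbackConstruction.sheafPullback (Over.map f)
      AddCommGrpCat.{u} (J.over X) (J.over Y)) := comp_preservesFiniteLimits _ _
  exact preservesFiniteLimits_of_natIso (Functor.sheafPullbackConstruction.sheafPullbackIso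
    (Over.map f) AddCommGrpCat.{u} (J.over X) (J.over Y)).symm

instance : PreservesFiniteColimits (extZero J f) :=
  haveI := (extZeroAdj J f).leftAdjoint_preservesColimits
  inferInstance

instance : (extZero J f).Additive := (extZeroAdj J f).left_adjoint_additive

end ExtZero

section Eps

variable {J} {J' : GrothendieckTopology C} (h : J' ≤ J)

/-- The comparison functor on a localised site. -/
noncomputable abbrev epsX (X : C) : Sh J X ⥤ Sh J' X :=
  SiteCmp.epsSh (SiteCmp.over_le h X) AddCommGrpCat.{u}

/-- Its left adjoint. -/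
noncomputable abbrev epsInvX (X : C) : Sh J' X ⥤ Sh J X :=
  SiteCmp.epsShInv (SiteCmp.over_le h X) AddCommGrpCat.{u}

/-- The adjunction. -/
noncomputable abbrev epsAdjX (X : C) : epsInvX h X ⊣ epsX h X :=
  SiteCmp.epsShAdj (SiteCmp.over_le h X) AddCommGrpCat.{u}

instance (X : C) : (epsX h X).Full where
  map_surjective {M N} φ := ⟨⟨{ app := fun T => φ.hom.app T, naturality := fun _ _ g => φ.hom.naturality g }⟩, rfl⟩

instance (X : C) : (epsX h X).Faithful where
  map_injective {M N a b} e := Sheaf.hom_ext (NatTrans.ext (funext fun T =>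
    congrArg (fun q => q.hom.app T) e))

instance (X : C) : (epsX h X).Additive where

instance (X : C) : (epsInvX h X).Additive := (epsAdjX h X).left_adjoint_additive

instance (X : C) : PreservesFiniteLimits (epsX h X) :=
  haveI := (epsAdjX h X).rightAdjoint_preservesLimits
  inferInstance

instance (X : C) : PreservesFiniteColimits (epsInvX h X) :=
  haveI := (epsAdjX h X).leftAdjoint_preservesColimits
  inferInstance

instance (X : C) : PreservesFiniteLimits (epsInvX h X) :=
  letI := SiteCmp.idContinuous (SiteCmp.over_le h X)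
  let e : ((𝟭 (Over X)).op.lan : ((Over X)ᵒᵖ ⥤ AddCommGrpCat.{u}) ⥤ _) ≅ 𝟭 _ :=
    ((𝟭 (Over X)).op.lanAdjunction AddCommGrpCat.{u}).leftAdjointUniq
      (Adjunction.id.ofNatIsoRight (NatIso.ofComponents (fun P => (Functor.leftUnitor P).symm)
        (fun g => NatTrans.ext (funext fun T => (Category.comp_id _).trans (Category.id_comp _).symm))))
  haveI : PreservesFiniteLimits ((𝟭 (Over X)).op.lan : ((Over X)ᵒᵖ ⥤ AddCommGrpCat.{u}) ⥤ _) :=
    preservesFiniteLimits_of_natIso e.symm
  haveI : PreservesFiniteLimits ((𝟭 (Over X)).op.lan ⋙ presheafToSheaf (J.over X) AddCommGrpCat.{u}) :=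
    comp_preservesFiniteLimits _ _
  haveI : PreservesFiniteLimits (Functor.sheafPullbackConstruction.sheafPullback (𝟭 (Over X))
      AddCommGrpCat.{u} (J'.over X) (J.over X)) := comp_preservesFiniteLimits _ _
  preservesFiniteLimits_of_natIso (Functor.sheafPullbackConstruction.sheafPullbackIso
    (𝟭 (Over X)) AddCommGrpCat.{u} (J'.over X) (J.over X)).symm

/-- `ε` commutes with restriction. -/
noncomputable def epsRestrIso : restr J f ⋙ epsX h X ≅ epsX h Y ⋙ restr J' f :=
  NatIso.ofComponents (fun F => (fullyFaithfulSheafToPresheaf _ _).preimageIso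
    (NatIso.ofComponents (fun _ => Iso.refl _) (fun g => by exact (Category.comp_id _).trans (Category.id_comp _).symm)))
    (fun _ => Sheaf.hom_ext (NatTrans.ext (funext fun _ => by exact (Category.comp_id _).trans (Category.id_comp _).symm)))

/-- `ε` commutes with direct images. -/
noncomputable def epsDirImIso : epsX h X ⋙ dirIm J' f ≅ dirIm J f ⋙ epsX h Y :=
  NatIso.ofComponents (fun F => (fullyFaithfulSheafToPresheaf _ _).preimageIso
    ((Over.map f).op.ran.mapIso (Functor.leftUnitor F.obj) ≪≫ (Functor.leftUnitor _).symm))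
    (fun {F G} g => Sheaf.hom_ext (by
      show (Over.map f).op.ran.map (Functor.whiskerLeft (𝟭 (Over X)).op g.hom) ≫
          (Over.map f).op.ran.map G.obj.leftUnitor.hom ≫ ((Over.map f).op.ran.obj G.obj).leftUnitor.inv =
        ((Over.map f).op.ran.map F.obj.leftUnitor.hom ≫ ((Over.map f).op.ran.obj F.obj).leftUnitor.inv) ≫
          Functor.whiskerLeft (𝟭 (Over Y)).op ((Over.map f).op.ran.map g.hom)
      have h1 : Functor.whiskerLeft (𝟭 (Over X)).op g.hom ≫ G.obj.leftUnitor.hom =
          F.obj.leftUnitor.hom ≫ g.hom :=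
        NatTrans.ext (funext fun T => (Category.comp_id _).trans (Category.id_comp _).symm)
      have h2 : ((Over.map f).op.ran.map g.hom) ≫ ((Over.map f).op.ran.obj G.obj).leftUnitor.inv =
          ((Over.map f).op.ran.obj F.obj).leftUnitor.inv ≫
            Functor.whiskerLeft (𝟭 (Over Y)).op ((Over.map f).op.ran.map g.hom) :=
        NatTrans.ext (funext fun T => (Category.comp_id _).trans (Category.id_comp _).symm)
      refine (Category.assoc _ _ _).symm.trans (Eq.trans ?_ (Category.assoc _ _ _).symm)
      rw [← h2, ← Category.assoc]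
      exact congrArg (· ≫ _) (((Over.map f).op.ran.map_comp _ _).symm.trans
        ((congrArg _ h1).trans ((Over.map f).op.ran.map_comp _ _)))))

/-- `ε⁻¹` commutes with restriction. -/
noncomputable def epsInvRestrIso : restr J' f ⋙ epsInvX h X ≅ epsInvX h Y ⋙ restr J f :=
  (((restrAdj J' f).comp (epsAdjX h X)).ofNatIsoRight (epsDirImIso f h)).leftAdjointUniq
    ((epsAdjX h Y).comp (restrAdj J f))

/-- `ε⁻¹` commutes with extension by zero. -/
noncomputable def epsInvExtZeroIso : extZero J' f ⋙ epsInvX h Y ≅ epsInvX h X ⋙ extZero J f :=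
  (((extZeroAdj J' f).comp (epsAdjX h Y)).ofNatIsoRight (epsRestrIso f h).symm).leftAdjointUniq
    ((epsAdjX h X).comp (extZeroAdj J f))

end Eps

end Groth.Agent.SiteCmpLib.Cmp
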