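import Groth.Agent.SiteCmpLib.Cmp.OverMap
import Groth.Agent.SiteCmpLib.Cmp.AbSecs
import Mathlib.CategoryTheory.Limits.Shapes.Pullback.IsPullback.Basic

/-!
# Restricting to base changes along a morphism
-/

set_option autoImplicit false

universe u

open CategoryTheory CategoryTheory.Limits Opposite

namespace Groth.Agent.SiteCmpLib.Cmp

variable {C : Type u} [SmallCategory C] (J : GrothendieckTopology C) {X Y : C} (f : X ⟶ Y)

/-- Extension by zero of the restriction. -/
noncomputable abbrev pullShriek : Sh J Y ⥤ Sh J Y := restr J f ⋙ extZero J f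

/-- Direct image of the restriction. -/
noncomputable abbrev pullPush : Sh J Y ⥤ Sh J Y := restr J f ⋙ dirIm J f

/-- The adjunction between them. -/
noncomputable abbrev pullAdj : pullShriek J f ⊣ pullPush J f :=
  (restrAdj J f).comp (extZeroAdj J f)

variable {U : Over Y} {W : C} {p : W ⟶ U.left} {q : W ⟶ X} (hW : IsPullback p q U.hom f)

/-- The projection of the base change. -/
abbrev pbar : (Over.map f).obj (Over.mk q) ⟶ U := Over.homMk p hW.w

/-- The structured arrow of the base change is initial. -/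
noncomputable def pbarInitial :
    IsInitial (StructuredArrow.mk (Y := op (Over.mk q)) (pbar f hW).op :
      StructuredArrow (op U) (Over.map f).op) := by
  refine IsInitial.ofUniqueHom
    (fun j => StructuredArrow.homMk
      (Over.homMk (hW.lift j.hom.unop.left j.right.unop.hom ?_) (hW.lift_snd _ _ _)).op ?_)
    (fun j m => ?_)
  · exact (Over.w j.hom.unop)
  · exact Quiver.Hom.unop_inj (Over.OverMorphism.ext (hW.lift_fst _ _ _))
  · refine StructuredArrow.hom_ext _ _ (Quiver.Hom.unop_inj (Over.OverMorphism.ext ?_))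
    refine hW.hom_ext ?_ ?_
    · refine Eq.trans ?_ (hW.lift_fst _ _ _).symm
      exact congrArg (fun k => k.unop.left) (StructuredArrow.w m)
    · refine Eq.trans ?_ (hW.lift_snd _ _ _).symm
      exact Over.w m.right.unop

lemma isIso_π_initial {K : Type*} [Category K] {D : Type*} [Category D] {F : K ⥤ D} {c : Cone F}
    (hc : IsLimit c) {j : K} (I : IsInitial j) : IsIso (c.π.app j) := by
  refine ⟨hc.lift (coneOfDiagramInitial I F), hc.hom_ext fun k => ?_, ?_⟩
  · rw [Category.assoc, hc.fac, Category.id_comp]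
    exact c.w (I.to k)
  · rw [hc.fac]
    exact (congrArg F.map (I.hom_ext (I.to j) (𝟙 j))).trans (F.map_id j)

/-- Sections of the direct image of the restriction are sections on the base change. -/
noncomputable def proj (M : Sh J Y) :
    ((pullPush J f).obj M).obj.obj (op U) ⟶ M.obj.obj (op ((Over.map f).obj (Over.mk q))) :=
  ((Over.map f).op.ran.obj ((Over.map f).op ⋙ M.obj)).map (pbar f hW).op ≫
    ((Over.map f).op.ranCounit.app ((Over.map f).op ⋙ M.obj)).app (op (Over.mk q))

instance isIso_proj (M : Sh J Y) : IsIso (proj J f hW M) := by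
  let L := (Over.map f).op
  exact isIso_π_initial (L.isPointwiseRightKanExtensionRanCounit (L ⋙ M.obj) (op U))
    (pbarInitial f hW)

lemma proj_naturality {M N : Sh J Y} (g : M ⟶ N) :
    ((pullPush J f).map g).hom.app (op U) ≫ proj J f hW N =
      proj J f hW M ≫ g.hom.app (op ((Over.map f).obj (Over.mk q))) := by
  let L := (Over.map f).op
  let φ := Functor.whiskerLeft L g.hom
  show (L.ran.map φ).app (op U) ≫ (L.ran.obj (L ⋙ N.obj)).map (pbar f hW).op ≫
    (L.ranCounit.app (L ⋙ N.obj)).app (op (Over.mk q)) = _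
  refine (Category.assoc _ _ _).symm.trans ((congrArg (· ≫ _)
    ((L.ran.map φ).naturality (pbar f hW).op).symm).trans ?_)
  refine (Category.assoc _ _ _).trans (Eq.trans ?_ (Category.assoc _ _ _).symm)
  exact congrArg (_ ≫ ·) (NatTrans.congr_app (L.ranCounit.naturality φ) (op (Over.mk q)))

/-- `Hom(j_! j⁻¹ P_U, M) → Hom(P_W, M)`. -/
noncomputable def rho (M : Sh J Y) (φ : (pullShriek J f).obj ((freeF (J.over Y)).obj U) ⟶ M) :
    (freeF (J.over Y)).obj ((Over.map f).obj (Over.mk q)) ⟶ M :=
  (SiteBase.secEquiv (J.over Y) _ M).symm ((proj J f hW M).hom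
    (SiteBase.secEquiv (J.over Y) U _ ((pullAdj J f).homEquiv _ M φ)))

lemma rho_bijective (M : Sh J Y) : Function.Bijective (rho J f hW M) :=
  (SiteBase.secEquiv (J.over Y) _ M).symm.bijective.comp
    (((ConcreteCategory.isIso_iff_bijective (proj J f hW M)).1 inferInstance).comp
      ((SiteBase.secEquiv (J.over Y) U _).bijective.comp ((pullAdj J f).homEquiv _ M).bijective))

lemma rho_comp {M N : Sh J Y} (φ : (pullShriek J f).obj ((freeF (J.over Y)).obj U) ⟶ M) (g : M ⟶ N) :
    rho J f hW N (φ ≫ g) = rho J f hW M φ ≫ g := by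
  refine Eq.trans ?_ (SiteBase.secEquiv_symm_comp _ _ g).symm
  refine congrArg (SiteBase.secEquiv (J.over Y) _ N).symm ?_
  rw [(pullAdj J f).homEquiv_naturality_right]
  refine Eq.trans (congrArg (proj J f hW N).hom (SiteBase.secEquiv_comp _ _ _)) ?_
  exact ConcreteCategory.congr_hom (proj_naturality J f hW g) _

/-- `P_W ≅ j_! j⁻¹ P_U`. -/
noncomputable def kap : (freeF (J.over Y)).obj ((Over.map f).obj (Over.mk q)) ⟶
    (pullShriek J f).obj ((freeF (J.over Y)).obj U) :=
  rho J f hW _ (𝟙 _)

lemma kap_comp {M : Sh J Y} (φ : (pullShriek J f).obj ((freeF (J.over Y)).obj U) ⟶ M) :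
    kap J f hW ≫ φ = rho J f hW M φ := by
  rw [kap, ← rho_comp, Category.id_comp]

instance isIso_kap : IsIso (kap J f hW) := by
  obtain ⟨g, hg⟩ := (rho_bijective J f hW _).2 (𝟙 _)
  rw [← kap_comp] at hg
  refine ⟨g, hg, (rho_bijective J f hW _).1 ?_⟩
  rw [← kap_comp, ← kap_comp, ← Category.assoc, hg, Category.id_comp, Category.comp_id]

variable {U' : Over Y} {W' : C} {p' : W' ⟶ U'.left} {q' : W' ⟶ X}
  (hW' : IsPullback p' q' U'.hom f)

lemma kap_naturality (g : U' ⟶ U) (h : Over.mk q' ⟶ Over.mk q) (hp : h.left ≫ p = p' ≫ g.left) :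
    (freeF (J.over Y)).map ((Over.map f).map h) ≫ kap J f hW =
      kap J f hW' ≫ (pullShriek J f).map ((freeF (J.over Y)).map g) := by
  rw [kap_comp]
  apply (SiteBase.secEquiv (J.over Y) _ _).injective
  refine (SiteBase.secEquiv_freeSheafMap _ _).trans ?_
  simp only [kap, rho, AddEquiv.apply_symm_apply]
  have e1 : (pullAdj J f).homEquiv _ _ ((pullShriek J f).map ((freeF (J.over Y)).map g)) =
      (freeF (J.over Y)).map g ≫ (pullAdj J f).homEquiv _ _ (𝟙 _) := by
    rw [← (pullAdj J f).homEquiv_naturality_left, Category.comp_id]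
  refine Eq.trans ?_ (congrArg (fun z => (proj J f hW' _).hom (SiteBase.secEquiv (J.over Y) U' _ z)) e1).symm
  refine Eq.trans ?_ (congrArg (proj J f hW' _).hom (SiteBase.secEquiv_freeSheafMap g _).symm)
  have e2 : pbar f hW' ≫ g = (Over.map f).map h ≫ pbar f hW :=
    Over.OverMorphism.ext hp.symm
  let M := (pullShriek J f).obj ((freeF (J.over Y)).obj U)
  let L := (Over.map f).op
  have e3 : ((pullPush J f).obj M).obj.map g.op ≫ proj J f hW' M =
      proj J f hW M ≫ M.obj.map ((Over.map f).map h).op := by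
    show (L.ran.obj (L ⋙ M.obj)).map g.op ≫ (L.ran.obj (L ⋙ M.obj)).map (pbar f hW').op ≫ _ = _
    rw [← Category.assoc, ← Functor.map_comp, ← op_comp, e2, op_comp, Functor.map_comp, Category.assoc]
    refine Eq.trans ?_ (Category.assoc _ _ _).symm
    exact congrArg (_ ≫ ·) ((L.ranCounit.app (L ⋙ M.obj)).naturality h.op)
  exact (ConcreteCategory.congr_hom e3 _).symm

end Groth.Agent.SiteCmpLib.Cmp
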