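import Groth.Agent.SiteCmpLib.Cmp.One
import Mathlib.CategoryTheory.Adjunction.Unique

/-!
# Comparison squares: restriction and higher direct images
-/

set_option autoImplicit false

universe w v u

open CategoryTheory CategoryTheory.Limits DerivedCategory Pretriangulated

namespace Groth.Agent.SiteCmpLib.Cmp

open Secs (RG)

variable {A : Type u} [Category.{v} A] [Abelian A] [IsGrothendieckAbelian.{v} A]
  {A' : Type u} [Category.{v} A'] [Abelian A'] [IsGrothendieckAbelian.{v} A']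
  {B : Type u} [Category.{v} B] [Abelian B] [IsGrothendieckAbelian.{v} B]
  {B' : Type u} [Category.{v} B'] [Abelian B'] [IsGrothendieckAbelian.{v} B']
  [HasDerivedCategory.{w} A] [HasDerivedCategory.{w} A'] [HasDerivedCategory.{w} B]
  [HasDerivedCategory.{w} B']
  {e : B ⥤ A} {ε : A ⥤ B} (ae : e ⊣ ε) [ε.Full] [ε.Faithful] [ε.Additive] [e.Additive]
  [PreservesFiniteLimits e] [PreservesFiniteColimits e] [PreservesFiniteLimits ε]
  {e' : B' ⥤ A'} {ε' : A' ⥤ B'} (ae' : e' ⊣ ε') [ε'.Full] [ε'.Faithful] [ε'.Additive] [e'.Additive]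
  [PreservesFiniteLimits e'] [PreservesFiniteColimits e'] [PreservesFiniteLimits ε']
  {r : A ⥤ A'} {f : A' ⥤ A} (ar : r ⊣ f) [r.Additive] [f.Additive]
  [PreservesFiniteLimits r] [PreservesFiniteColimits r] [PreservesFiniteLimits f]
  {r' : B ⥤ B'} {f' : B' ⥤ B} (ar' : r' ⊣ f') [r'.Additive] [f'.Additive]
  [PreservesFiniteLimits r'] [PreservesFiniteColimits r'] [PreservesFiniteLimits f']
  (hc : r' ⋙ e' ≅ e ⋙ r)
  [(ε.mapHomotopyCategory (ComplexShape.up ℤ) ⋙ Qh).HasRightDerivedFunctor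
      (HomotopyCategory.quasiIso A (ComplexShape.up ℤ))]
  [(ε'.mapHomotopyCategory (ComplexShape.up ℤ) ⋙ Qh).HasRightDerivedFunctor
      (HomotopyCategory.quasiIso A' (ComplexShape.up ℤ))]
  [(f.mapHomotopyCategory (ComplexShape.up ℤ) ⋙ Qh).HasRightDerivedFunctor
      (HomotopyCategory.quasiIso A' (ComplexShape.up ℤ))]
  [(f'.mapHomotopyCategory (ComplexShape.up ℤ) ⋙ Qh).HasRightDerivedFunctor
      (HomotopyCategory.quasiIso B' (ComplexShape.up ℤ))]

/-- `R^pε` vanishes in degrees `1..n` on objects whose image lies in the class. -/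
def Van1 (ε : A ⥤ B) [ε.Additive] (P : ObjectProperty B) (n : ℕ) : Prop :=
  ∀ M : A, P (ε.obj M) → ∀ p : ℕ, 1 ≤ p → p ≤ n → IsZero ((ε.rightDerived p).obj M)

include ae ae' ar ar' hc in
omit [ε.Full] [ε.Faithful] [ε'.Full] [ε'.Faithful] [PreservesFiniteLimits f]
  [PreservesFiniteLimits f'] [PreservesFiniteLimits ε] [PreservesFiniteLimits ε'] in
lemma nonempty_swap : Nonempty (RG ε' ⋙ RG f' ≅ RG f ⋙ RG ε) := by
  obtain ⟨sq⟩ := nonempty_mapDC_square r' e' e r hc
  obtain ⟨a⟩ := nonempty_adj_RG ae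
  obtain ⟨a'⟩ := nonempty_adj_RG ae'
  obtain ⟨b⟩ := nonempty_adj_RG ar
  obtain ⟨b'⟩ := nonempty_adj_RG ar'
  exact ⟨((b'.comp a').ofNatIsoLeft sq).rightAdjointUniq (a.comp b)⟩

/-- The low degrees of `Rf'` of the image of `M` and of `Rε' M`. -/
lemma nonempty_low (M : A') (n : ℕ)
    (hv : ∀ p : ℕ, 1 ≤ p → p ≤ n → IsZero ((ε'.rightDerived p).obj M))
    (i : ℕ) (hi : i ≤ n) :
    Nonempty ((homologyFunctor B (i : ℤ)).obj ((RG f').obj ((RG ε').obj ((singleFunctor A' 0).obj M))) ≅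
      (f'.rightDerived i).obj (ε'.obj M)) := by
  obtain ⟨Z, a, b, c, hT, hZ⟩ := exists_low_triangle ε' M n hv
  obtain ⟨δ, hδ⟩ := Secs.exists_distinguished_RG f' _ hT
  have := Secs.isGE_RG f' Z ((n : ℤ) + 1)
  have hz : ∀ k : ℤ, k ≤ n → IsZero ((homologyFunctor B k).obj ((RG f').obj Z)) := fun k hk =>
    isZero_of_isGE ((RG f').obj Z) ((n : ℤ) + 1) k (by omega)
  have hm := (HomologySequence.mono_homologyMap_mor₁_iff _ hδ ((i : ℤ) - 1) i (by omega)).2
    ((hz _ (by omega)).eq_of_src _ _)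
  have he := (HomologySequence.epi_homologyMap_mor₁_iff _ hδ (i : ℤ)).2
    ((hz _ (by omega)).eq_of_tgt _ _)
  obtain ⟨h1, -⟩ := Secs.nonempty_homology_RG_single f' (ε'.obj M)
  obtain ⟨e1⟩ := h1 i
  exact ⟨(@asIso _ _ _ _ _ (@isIso_of_mono_of_epi _ _ _ _ _ _ hm he)).symm ≪≫ e1⟩

variable (P : ObjectProperty B) [WSerre.IsWeakSerre P] (P' : ObjectProperty B')
  [WSerre.IsWeakSerre P'] (hJ : ∀ M, P M → IsIso (ae.unit.app M))
  (hJ' : ∀ M, P' M → IsIso (ae'.unit.app M)) (h2 : ∀ M, P M → P' (r'.obj M))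
  (h4 : ∀ M, P' M → ∀ i : ℕ, P ((f'.rightDerived i).obj M))

include ae ae' hc hJ' h2 in
omit [HasDerivedCategory.{w} A] [HasDerivedCategory.{w} A'] [HasDerivedCategory.{w} B]
  [HasDerivedCategory.{w} B'] in
lemma prop_restrict (M : A) (hM : P (ε.obj M)) :
    P' (ε'.obj (r.obj M)) ∧ Nonempty (r'.obj (ε.obj M) ≅ ε'.obj (r.obj M)) := by
  have := Adjunction.counit_isIso_of_R_fully_faithful ae
  have := hJ' _ (h2 _ hM)
  let i : r'.obj (ε.obj M) ≅ ε'.obj (r.obj M) := asIso (ae'.unit.app (r'.obj (ε.obj M))) ≪≫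
    ε'.mapIso (hc.app (ε.obj M) ≪≫ r.mapIso ((asIso ae.counit).app M))
  exact ⟨P'.prop_of_iso i (h2 _ hM), ⟨i⟩⟩

include ae ae' ar ar' hc hJ h4 in
/-- Higher direct images commute with `ε` in low degrees. -/
theorem low_rpush (M : A') (hM : P' (ε'.obj M)) (n : ℕ) (hv : Van1 ε' P' n) (i : ℕ) (hi : i ≤ n) :
    Nonempty ((f'.rightDerived i).obj (ε'.obj M) ≅ ε.obj ((f.rightDerived i).obj M)) ∧
      Nonempty ((homologyFunctor B (i : ℤ)).obj ((RG ε).obj ((RG f).obj ((singleFunctor A' 0).obj M))) ≅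
        (f'.rightDerived i).obj (ε'.obj M)) := by
  obtain ⟨φ⟩ := nonempty_swap ae ae' ar ar' hc
  obtain ⟨e1⟩ := nonempty_low (f' := f') M n (hv M hM) i hi
  let e2 := (homologyFunctor B (i : ℤ)).mapIso ((φ.app ((singleFunctor A' 0).obj M)).symm) ≪≫ e1
  obtain ⟨Φ⟩ := nonempty_eH ae (i : ℤ)
  obtain ⟨h1, -⟩ := Secs.nonempty_homology_RG_single f M
  obtain ⟨e3⟩ := h1 i
  let e4 : e.obj ((f'.rightDerived i).obj (ε'.obj M)) ≅ (f.rightDerived i).obj M :=
    e.mapIso e2.symm ≪≫ Φ.app ((RG f).obj ((singleFunctor A' 0).obj M)) ≪≫ e3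
  exact ⟨⟨@asIso _ _ _ _ (ae.unit.app _) (hJ _ (h4 _ hM i)) ≪≫ ε.mapIso e4⟩, ⟨e2⟩⟩

include ae ae' ar ar' hc hJ hJ' h2 h4 in
lemma mono_unit_step (n : ℕ) (hv : Van1 ε P n) (hv' : Van1 ε' P' n)
    (hr : ∀ X, IsZero (r.obj X) → IsZero X) (b : r.mapDerivedCategory ⊣ RG f)
    (F : A) (hF : P (ε.obj F)) :
    Mono ((homologyFunctor B ((n + 1 : ℕ) : ℤ)).map
      ((RG ε).map (b.unit.app ((singleFunctor A 0).obj F)))) := by
  let sF := (singleFunctor A 0).obj F
  let u := b.unit.app sF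
  let K := (RG f).obj (r.mapDerivedCategory.obj sF)
  obtain ⟨Q, v, c, hT⟩ := distinguished_cocone_triangle u
  obtain ⟨hF', ⟨ir⟩⟩ := prop_restrict ae ae' hc P P' hJ' h2 F hF
  let iK : K ≅ (RG f).obj ((singleFunctor A' 0).obj (r.obj F)) :=
    (RG f).mapIso ((r.mapDerivedCategorySingleFunctor 0).app F)
  have hGEs : (r.mapDerivedCategory.obj sF).IsGE 0 := isGE_map r sF 0
  have hK0 : K.IsGE 0 := Secs.isGE_RG f _ 0
  obtain ⟨h1, -⟩ := Secs.nonempty_homology_RG_single f (r.obj F)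
  have hKP : ∀ q : ℕ, q ≤ n → P (ε.obj ((homologyFunctor A (q : ℤ)).obj K)) := fun q hq => by
    obtain ⟨e1⟩ := h1 q
    obtain ⟨⟨e2⟩, -⟩ := low_rpush ae ae' ar ar' hc P P' hJ h4 (r.obj F) hF' n hv' q hq
    exact P.prop_of_iso (e2 ≪≫ ε.mapIso (e1.symm ≪≫ (homologyFunctor A (q : ℤ)).mapIso iK.symm))
      (h4 _ hF' q)
  have hsz : ∀ q : ℤ, q ≠ 0 → IsZero ((homologyFunctor A q).obj sF) := fun q hq => by
    rcases lt_or_gt_of_ne hq with h | h
    · exact isZero_of_isGE sF 0 q h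
    · exact isZero_of_isLE sF 0 q h
  have hmono : Mono ((homologyFunctor A 0).map u) := by
    have hs : Mono (r.mapDerivedCategory.map u) := by
      have : Mono (r.mapDerivedCategory.map u ≫ b.counit.app _) :=
        (b.left_triangle_components sF).symm ▸ inferInstanceAs (Mono (𝟙 _))
      exact mono_of_mono _ (b.counit.app _)
    have : IsSplitMono (r.mapDerivedCategory.map u) :=
      IsSplitMono.mk' ⟨b.counit.app _, b.left_triangle_components sF⟩
    have h2 : Mono (r.map ((homologyFunctor A 0).map u)) := by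
      have h3 := (KFlatLib.mapDCHomologyIso r 0).hom.naturality u
      let i := KFlatLib.mapDCHomologyIso r 0
      have h4 : r.map ((homologyFunctor A 0).map u) = i.inv.app sF ≫
          (homologyFunctor A' 0).map (r.mapDerivedCategory.map u) ≫ i.hom.app _ :=
        (Iso.eq_inv_comp (i.app sF)).2 h3.symm
      rw [h4]
      exact @mono_comp _ _ _ _ _ _ inferInstance _ (@mono_comp _ _ _ _ _ _
        (IsSplitMono.mono ((homologyFunctor A' 0).map (r.mapDerivedCategory.map u))) _ inferInstance)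
    rw [Preadditive.mono_iff_isZero_kernel]
    refine hr _ (IsZero.of_iso ?_ (PreservesKernel.iso r _))
    exact (Preadditive.mono_iff_isZero_kernel _).1 h2
  have hQ0 : Q.IsGE 0 := (isGE_iff _ _).2 fun q hq => by
    have hK' : IsZero ((homologyFunctor A q).obj K) := isZero_of_isGE K 0 q hq
    refine (HomologySequence.exact₃ _ hT q (q + 1) rfl).isZero_X₂ (hK'.eq_of_src _ _) ?_
    by_cases hq1 : q + 1 = 0
    · obtain rfl : q = -1 := by omega
      exact @zero_of_comp_mono _ _ _ _ _ _ _ ((homologyFunctor A 0).map u) hmono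
        (HomologySequence.δ_comp _ hT (-1) 0 (by omega))
    · exact (hsz _ hq1).eq_of_tgt _ _
  have he0 : Epi ((homologyFunctor A 0).map v) :=
    (HomologySequence.epi_homologyMap_mor₂_iff _ hT 0 1 rfl).2
      ((hsz 1 one_ne_zero).eq_of_tgt _ _)
  have hqiso : ∀ q : ℤ, 1 ≤ q → IsIso ((homologyFunctor A q).map v) := fun q hq =>
    @isIso_of_mono_of_epi _ _ _ _ _ _
      ((HomologySequence.mono_homologyMap_mor₂_iff _ hT q).2 ((hsz q (by omega)).eq_of_src _ _))
      ((HomologySequence.epi_homologyMap_mor₂_iff _ hT q (q + 1) rfl).2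
        ((hsz (q + 1) (by omega)).eq_of_tgt _ _))
  have hsF : P (ε.obj ((homologyFunctor A 0).obj sF)) :=
    P.prop_of_iso (ε.mapIso ((singleFunctorCompHomologyFunctorIso A 0).app F).symm) hF
  have hzero : (homologyFunctor A 0).map u ≫ (homologyFunctor A 0).map v = 0 :=
    ((homologyFunctor A 0).map_comp _ _).symm.trans
      ((congrArg _ (comp_distTriang_mor_zero₁₂ _ hT)).trans (Functor.map_zero _ _ _))
  obtain ⟨hQP0, hεv⟩ : P (ε.obj ((homologyFunctor A 0).obj Q)) ∧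
      Epi (ε.map ((homologyFunctor A 0).map v)) := by
    let S := ShortComplex.mk ((homologyFunctor A 0).map u) ((homologyFunctor A 0).map v) hzero
    have : Epi S.g := he0
    exact prop_coker ae hJ (S := S) (HomologySequence.exact₂ _ hT 0) hsF (hKP 0 (by omega))
  have hQP : ∀ q : ℕ, q ≤ n → P (ε.obj ((homologyFunctor A (q : ℤ)).obj Q)) := by
    intro q hq
    rcases Nat.eq_zero_or_pos q with rfl | hq0
    · exact hQP0
    · have := hqiso (q : ℤ) (by omega)
      exact P.prop_of_iso (ε.mapIso (asIso ((homologyFunctor A (q : ℤ)).map v))) (hKP q hq)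
  have hsep := sep_homology ae n (n + 1) 0 (by omega) Q hQ0
    (fun q hq p hp hp' => hv _ (hQP q hq) p hp hp') n le_rfl
  obtain ⟨Φ⟩ := nonempty_eH ae (n : ℤ)
  let a := (homologyFunctor B (n : ℤ)).map ((RG ε).map v)
  have hεea : Epi (ε.map (e.map a)) := by
    have h5 : Epi (ε.map ((homologyFunctor A (n : ℤ)).map v)) := by
      rcases Nat.eq_zero_or_pos n with rfl | hn
      · exact hεv
      · have := hqiso (n : ℤ) (by omega)
        infer_instance
    have h6 : e.map a = Φ.hom.app K ≫ (homologyFunctor A (n : ℤ)).map v ≫ Φ.inv.app Q := by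
      rw [← Category.assoc, ← cancel_mono (Φ.hom.app Q)]
      simp only [Category.assoc, Iso.inv_hom_id_app]
      exact (Φ.hom.naturality v).trans (congrArg _ (Category.comp_id _).symm)
    rw [h6, Functor.map_comp, Functor.map_comp]
    exact @epi_comp _ _ _ _ _ _ inferInstance _ (@epi_comp _ _ _ _ _ _ h5 _ inferInstance)
  have hfixK : IsIso (ae.unit.app ((homologyFunctor B (n : ℤ)).obj ((RG ε).obj K))) := by
    obtain ⟨-, ⟨e1⟩⟩ := low_rpush ae ae' ar ar' hc P P' hJ h4 (r.obj F) hF' n hv' n le_rfl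
    exact fix_of_iso ae (e1.symm ≪≫ (homologyFunctor B (n : ℤ)).mapIso ((RG ε).mapIso iK.symm))
      (hJ _ (h4 _ hF' n))
  have he : a ≫ ae.unit.app _ = ae.unit.app _ ≫ ε.map (e.map a) := ae.unit.naturality a
  have hea : Epi (a ≫ ae.unit.app _) := by
    rw [he]
    exact @epi_comp _ _ _ _ _ _ (@IsIso.epi_of_iso _ _ _ _ _ hfixK) _ hεea
  have : Epi (ae.unit.app ((homologyFunctor B (n : ℤ)).obj ((RG ε).obj Q))) := epi_of_epi a _
  have := isIso_of_mono_of_epi (ae.unit.app ((homologyFunctor B (n : ℤ)).obj ((RG ε).obj Q)))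
  have hepi : Epi a := by
    have h7 : a = (a ≫ ae.unit.app _) ≫ inv (ae.unit.app ((homologyFunctor B (n : ℤ)).obj ((RG ε).obj Q))) := by
      simp
    rw [h7]
    infer_instance
  obtain ⟨δ, hδ⟩ := Secs.exists_distinguished_RG ε _ hT
  refine (HomologySequence.mono_homologyMap_mor₁_iff _ hδ (n : ℤ) ((n + 1 : ℕ) : ℤ) (by push_cast; rfl)).2 ?_
  exact (cancel_epi a).1 ((HomologySequence.comp_δ _ hδ (n : ℤ) ((n + 1 : ℕ) : ℤ) (by push_cast; rfl)).trans comp_zero.symm)

include ae ae' ar ar' hc hJ hJ' h2 h4 in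
/-- The inductive step: `R^{n+1}ε F` has no non-zero subobject killed by restriction. -/
theorem kernel_step (n : ℕ) (hv : Van1 ε P n) (hv' : Van1 ε' P' n)
    (hr : ∀ X, IsZero (r.obj X) → IsZero X) (F : A) (hF : P (ε.obj F))
    (k : B) (i : k ⟶ (homologyFunctor B ((n + 1 : ℕ) : ℤ)).obj ((RG ε).obj ((singleFunctor A 0).obj F)))
    [Mono i] (hk : IsZero (r'.obj k)) : IsZero k := by
  obtain ⟨b⟩ := nonempty_adj_RG ar
  obtain ⟨b'⟩ := nonempty_adj_RG ar'
  obtain ⟨φ⟩ := nonempty_swap ae ae' ar ar' hc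
  let sF := (singleFunctor A 0).obj F
  let Y := (RG ε).obj sF
  let m : ℤ := ((n + 1 : ℕ) : ℤ)
  have hg : Mono ((homologyFunctor B m).map (b'.unit.app Y)) := by
    let μ : Y ⟶ (RG f').obj ((RG ε').obj (r.mapDerivedCategory.obj sF)) :=
      (RG ε).map (b.unit.app sF) ≫ φ.inv.app _
    have hμ : μ = b'.unit.app Y ≫ (RG f').map ((b'.homEquiv _ _).symm μ) :=
      ((b'.homEquiv_unit _ _ _).symm.trans ((b'.homEquiv _ _).apply_symm_apply μ)).symm
    have h1 : Mono ((homologyFunctor B m).map μ) := by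
      rw [Functor.map_comp]
      exact @mono_comp _ _ _ _ _ _ (mono_unit_step ae ae' ar ar' hc P P' hJ hJ' h2 h4 n hv hv' hr b F hF)
        _ inferInstance
    rw [hμ, Functor.map_comp] at h1
    exact @mono_of_mono _ _ _ _ _ _ _ h1
  obtain ⟨Z, a, c, d, hT, hZ⟩ := exists_low_triangle ε F n (hv F hF)
  have hsm : ∀ q : ℤ, 0 < q → IsZero ((homologyFunctor B q).obj ((singleFunctor B 0).obj (ε.obj F))) :=
    fun q hq => isZero_of_isLE _ 0 q hq
  have hc1 : Mono ((homologyFunctor B m).map c) :=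
    (HomologySequence.mono_homologyMap_mor₂_iff _ hT m).2 ((hsm _ (by omega)).eq_of_src _ _)
  let L := (TStructure.t.truncLT (m + 1)).obj Z
  have : L.IsLE m := TStructure.t.isLE_truncLT_obj Z (m + 1) m (by omega)
  have : TStructure.t.IsGE Z m := by
    have : (n : ℤ) + 1 = m := by simp [m]
    rw [← this]; exact hZ
  have : L.IsGE m := inferInstanceAs (TStructure.t.IsGE _ m)
  obtain ⟨N, ⟨eN⟩⟩ := exists_iso_singleFunctor_obj_of_isGE_of_isLE L m
  have := H9Misc.isIso_map_truncLTι (m + 1) m (by omega) Z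
  let jN : (homologyFunctor B m).obj ((singleFunctor B m).obj N) ≅ (homologyFunctor B m).obj Z :=
    ((homologyFunctor B m).mapIso eN).symm ≪≫
      asIso ((homologyFunctor B m).map ((TStructure.t.truncLTι (m + 1)).app Z))
  let x : k ⟶ N := i ≫ (homologyFunctor B m).map c ≫ jN.inv ≫
    ((singleFunctorCompHomologyFunctorIso B m).hom.app N)
  let w : (singleFunctor B m).obj k ⟶ Z :=
    (singleFunctor B m).map x ≫ eN.inv ≫ (TStructure.t.truncLTι (m + 1)).app Z
  have hw : KFlatLib.psiC m k Z w = i ≫ (homologyFunctor B m).map c := by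
    rw [KFlatLib.psiC_single_map]
    show x ≫ (KFlatLib.hSingle m N).inv ≫ (homologyFunctor B m).map _ = _
    rw [Functor.map_comp]
    show x ≫ (KFlatLib.hSingle m N).inv ≫ jN.hom = _
    simp only [x, Category.assoc]
    erw [Iso.hom_inv_id_app_assoc, Iso.inv_hom_id, Category.comp_id]
  have hw0 : w ≫ b'.unit.app Z = 0 := by
    refine (b'.homEquiv _ _).symm.injective ?_
    refine IsZero.eq_of_src (IsZero.of_iso ?_ ((r'.mapDerivedCategorySingleFunctor m).app k)) _ _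
    exact (singleFunctor B' m).map_isZero hk
  have hnat : c ≫ b'.unit.app Z = b'.unit.app Y ≫ (RG f').map (r'.mapDerivedCategory.map c) :=
    b'.unit.naturality c
  let t := i ≫ (homologyFunctor B m).map (b'.unit.app Y)
  have ht : t ≫ (homologyFunctor B m).map ((RG f').map (r'.mapDerivedCategory.map c)) = 0 := by
    show (i ≫ _) ≫ _ = 0
    rw [Category.assoc, ← Functor.map_comp, ← hnat, Functor.map_comp, ← Category.assoc, ← hw,
      ← KFlatLib.psiC_comp, hw0]
    simp [KFlatLib.psiC]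
  obtain ⟨d', hd'⟩ := Secs.exists_distinguished_RG f' _
    (r'.mapDerivedCategory.map_distinguished _ hT)
  have : (r'.mapDerivedCategory.obj Z).IsGE ((n : ℤ) + 1) := isGE_map r' Z _
  have := Secs.isGE_RG f' (r'.mapDerivedCategory.obj Z) ((n : ℤ) + 1)
  have hS := HomologySequence.exact₂ _ hd' m
  have hmS := (HomologySequence.mono_homologyMap_mor₁_iff _ hd' (n : ℤ) m (by simp [m])).2
    ((isZero_of_isGE ((RG f').obj (r'.mapDerivedCategory.obj Z)) ((n : ℤ) + 1) n (by omega)).eq_of_src _ _)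
  let S₀ := (homologyFunctor B m).obj ((RG f').obj (r'.mapDerivedCategory.obj
    ((singleFunctor B 0).obj (ε.obj F))))
  have : IsIso (ae.unit.app S₀) := by
    obtain ⟨h1, -⟩ := Secs.nonempty_homology_RG_single f' (r'.obj (ε.obj F))
    obtain ⟨e1⟩ := h1 (n + 1)
    exact fix_of_iso ae (e1.symm ≪≫ ((RG f' ⋙ homologyFunctor B m).mapIso
      ((r'.mapDerivedCategorySingleFunctor 0).app (ε.obj F))).symm) (hJ _ (h4 _ (h2 _ hF) (n + 1)))
  have : Mono t := mono_comp i _
  obtain ⟨l, hl⟩ : ∃ l : k ⟶ S₀, l ≫ (homologyFunctor B m).map ((RG f').map (r'.mapDerivedCategory.map a)) = t :=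
    hS.lift' t ht
  have hek : IsZero (e.obj k) := by
    obtain ⟨Φ⟩ := nonempty_eH ae m
    exact IsZero.of_mono (e.map i) ((isZero_of_isLE sF 0 m (by omega)).of_iso (Φ.app sF))
  have hl0 : l = 0 := by
    rw [← cancel_mono (ae.unit.app S₀), zero_comp]
    refine (ae.unit.naturality l).trans ?_
    simp [hek.eq_of_src (e.map l) 0]
  rw [IsZero.iff_id_eq_zero, ← cancel_mono t, ← hl, hl0]
  simp

end Groth.Agent.SiteCmpLib.Cmp
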